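import Cfsg.Prelude.Def_ConjugacyFunctors
import Cfsg.Prelude.Def_LocalEven
import Cfsg.Agent.Lib.Coprime.Basic

/-!
# Conjugacy functors: basics

* `inducedFunctor_map`: compatibility of an induced functor with a hom injective on the `p`-subgroup
* `isConjugacyFunctor_inducedFunctor`, `normalizer_le_normalizer_functor`
* `involves_*`: sections (reflexive, transitive, subgroups, quotients)
* Sylow subgroups of subgroups in the `relIndex` form; `map_normalizer_eq` (coprime kernel)
-/

set_option autoImplicit false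

namespace Cfsg.Agent.ConjFun

universe u v w

section Conj

variable {G : Type u} [Group G]

theorem mem_conjMap {H : Subgroup G} {g x : G} :
    x ∈ H.map (MulAut.conj g).toMonoidHom ↔ g⁻¹ * x * g ∈ H := by
  constructor
  · rintro ⟨y, hy, rfl⟩
    simpa [mul_assoc] using hy
  · exact fun h => ⟨_, h, by simp [mul_assoc]⟩

theorem conjMap_mul (H : Subgroup G) (g h : G) :
    H.map (MulAut.conj (g * h)).toMonoidHom =
      (H.map (MulAut.conj h).toMonoidHom).map (MulAut.conj g).toMonoidHom := by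
  ext x
  simp [mem_conjMap, mul_assoc]

theorem conjMap_one (H : Subgroup G) : H.map (MulAut.conj (1 : G)).toMonoidHom = H := by
  ext x
  simp [mem_conjMap]

theorem conjMap_eq_self {H : Subgroup G} {g : G} (h : g ∈ Subgroup.normalizer (H : Set G)) :
    H.map (MulAut.conj g).toMonoidHom = H :=
  Subgroup.mem_normalizer_iff_map_conj_eq.1 h

theorem card_conjMap (H : Subgroup G) (g : G) :
    Nat.card ↥(H.map (MulAut.conj g).toMonoidHom) = Nat.card ↥H :=
  Subgroup.card_map_of_injective (MulAut.conj g).injective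

theorem conjMap_normalizer (H : Subgroup G) (g : G) :
    (Subgroup.normalizer (H : Set G)).map (MulAut.conj g).toMonoidHom =
      Subgroup.normalizer ((H.map (MulAut.conj g).toMonoidHom : Subgroup G) : Set G) :=
  Subgroup.map_normalizer_eq_of_bijective H (MulAut.conj g).bijective

theorem conjMap_centralizer (H : Subgroup G) (g : G) :
    (Subgroup.centralizer (H : Set G)).map (MulAut.conj g).toMonoidHom =
      Subgroup.centralizer ((H.map (MulAut.conj g).toMonoidHom : Subgroup G) : Set G) := by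
  ext x
  rw [mem_conjMap]
  constructor
  · rintro h _ ⟨a, ha, rfl⟩
    have h1 := h a ha
    calc g * a * g⁻¹ * x = g * (a * (g⁻¹ * x * g)) * g⁻¹ := by group
      _ = g * (g⁻¹ * x * g * a) * g⁻¹ := by rw [h1]
      _ = x * (g * a * g⁻¹) := by group
  · intro h a ha
    have h1 := h (g * a * g⁻¹) ⟨a, ha, rfl⟩
    calc a * (g⁻¹ * x * g) = g⁻¹ * (g * a * g⁻¹ * x) * g := by group
      _ = g⁻¹ * (x * (g * a * g⁻¹)) * g := by rw [h1]
      _ = g⁻¹ * x * g * a := by group

theorem conjMap_inf (A B : Subgroup G) (g : G) :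
    (A ⊓ B).map (MulAut.conj g).toMonoidHom =
      A.map (MulAut.conj g).toMonoidHom ⊓ B.map (MulAut.conj g).toMonoidHom :=
  Subgroup.map_inf _ _ _ (MulAut.conj g).injective

end Conj

section Functor

variable {p : ℕ} {W : ∀ (Q : Type u) [Group Q], Subgroup Q}

theorem inducedFunctor_le {G : Type u} [Group G] (W : ∀ (Q : Type u) [Group Q], Subgroup Q)
    (U : Subgroup G) : Cfsg.inducedFunctor W U ≤ U :=
  Subgroup.map_subtype_le _

theorem inducedFunctor_map {G H : Type u} [Group G] [Group H] (hW : Cfsg.IsCharPFunctor.{u} p W)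
    (f : G →* H) (U : Subgroup G) [Finite U] (hU : IsPGroup p ↥U)
    (hinj : Set.InjOn f (U : Set G)) :
    Cfsg.inducedFunctor W (U.map f) = (Cfsg.inducedFunctor W U).map f := by
  have hb : Function.Bijective (f.subgroupMap U) :=
    ⟨fun a b hab => Subtype.ext (hinj a.2 b.2 (congrArg Subtype.val hab)),
      MonoidHom.subgroupMap_surjective f U⟩
  let e : ↥U ≃* ↥(U.map f) := MulEquiv.ofBijective (f.subgroupMap U) hb
  have h := hW.2 ↥U ↥(U.map f) hU e
  unfold Cfsg.inducedFunctor
  rw [← h, Subgroup.map_map, Subgroup.map_map]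
  rfl

theorem inducedFunctor_ne_bot {G : Type u} [Group G] (hW : Cfsg.IsCharPFunctor.{u} p W)
    {U : Subgroup G} [Finite U] (hU : IsPGroup p ↥U) (hne : U ≠ ⊥) :
    Cfsg.inducedFunctor W U ≠ ⊥ := by
  rw [Cfsg.inducedFunctor, Ne, Subgroup.map_eq_bot_iff_of_injective _ U.subtype_injective]
  exact hW.1 ↥U hU ((Subgroup.nontrivial_iff_ne_bot U).mpr hne)

theorem isConjugacyFunctor_inducedFunctor {G : Type u} [Group G] [Finite G]
    (hW : Cfsg.IsCharPFunctor.{u} p W) :
    Cfsg.IsConjugacyFunctor p (Cfsg.inducedFunctor (G := G) W) :=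
  fun P hP => ⟨inducedFunctor_le W P, fun hne => inducedFunctor_ne_bot hW hP hne,
    fun g => inducedFunctor_map hW _ P hP (MulAut.conj g).injective.injOn⟩

theorem normalizer_le_normalizer_functor {G : Type v} [Group G] {W : Subgroup G → Subgroup G}
    (hW : Cfsg.IsConjugacyFunctor p W) {P : Subgroup G} (hP : IsPGroup p ↥P) :
    Subgroup.normalizer (P : Set G) ≤ Subgroup.normalizer ((W P : Subgroup G) : Set G) := by
  intro g hg
  rw [Subgroup.mem_normalizer_iff_map_conj_eq]
  show (W P).map (MulAut.conj g).toMonoidHom = W P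
  rw [← (hW P hP).2.2 g, conjMap_eq_self hg]

theorem le_normalizer_functor {G : Type v} [Group G] {W : Subgroup G → Subgroup G}
    (hW : Cfsg.IsConjugacyFunctor p W) {P : Subgroup G} (hP : IsPGroup p ↥P) :
    P ≤ Subgroup.normalizer ((W P : Subgroup G) : Set G) :=
  Subgroup.le_normalizer.trans (normalizer_le_normalizer_functor hW hP)

end Functor

section Sections

theorem involves_of_surjective {G : Type v} [Group G] {X : Type u} [Group X] (K : Subgroup G)
    (φ : ↥K →* X) (hφ : Function.Surjective φ) : Cfsg.Involves X G := by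
  have heq : (φ.ker.map K.subtype).subgroupOf K = φ.ker :=
    Subgroup.comap_map_eq_self_of_injective K.subtype_injective _
  have hn : ((φ.ker.map K.subtype).subgroupOf K).Normal := heq.symm ▸ MonoidHom.normal_ker φ
  exact ⟨K, φ.ker.map K.subtype, hn, ⟨(QuotientGroup.quotientMulEquivOfEq heq).trans
    (QuotientGroup.quotientKerEquivOfSurjective φ hφ)⟩⟩

theorem exists_surjective_of_involves {G : Type v} [Group G] {X : Type u} [Group X]
    (h : Cfsg.Involves X G) : ∃ (K : Subgroup G) (φ : ↥K →* X), Function.Surjective φ := by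
  obtain ⟨K, R, hR, ⟨e⟩⟩ := h
  exact ⟨K, e.toMonoidHom.comp (QuotientGroup.mk' _), e.surjective.comp Quotient.mk''_surjective⟩

theorem involves_refl (G : Type u) [Group G] : Cfsg.Involves G G :=
  involves_of_surjective ⊤ (⊤ : Subgroup G).subtype fun x => ⟨⟨x, trivial⟩, rfl⟩

theorem involves_subgroup {G : Type u} [Group G] (H : Subgroup G) : Cfsg.Involves ↥H G :=
  involves_of_surjective H (MonoidHom.id ↥H) fun x => ⟨x, rfl⟩

theorem involves_quotient {G : Type u} [Group G] (N : Subgroup G) [N.Normal] :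
    Cfsg.Involves (G ⧸ N) G :=
  involves_of_surjective ⊤ ((QuotientGroup.mk' N).comp (⊤ : Subgroup G).subtype) fun x => by
    obtain ⟨y, rfl⟩ := QuotientGroup.mk'_surjective N x
    exact ⟨⟨y, trivial⟩, rfl⟩

theorem involves_trans {G : Type w} [Group G] {Y : Type v} [Group Y] {X : Type u} [Group X]
    (h₁ : Cfsg.Involves X Y) (h₂ : Cfsg.Involves Y G) : Cfsg.Involves X G := by
  obtain ⟨K₁, φ, hφ⟩ := exists_surjective_of_involves h₁
  obtain ⟨K₂, ψ, hψ⟩ := exists_surjective_of_involves h₂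
  let L : Subgroup ↥K₂ := K₁.comap ψ
  let χ : ↥L →* ↥K₁ := (ψ.comp L.subtype).codRestrict K₁ fun x => x.2
  let e := L.equivMapOfInjective K₂.subtype K₂.subtype_injective
  refine involves_of_surjective (L.map K₂.subtype) (φ.comp (χ.comp e.symm.toMonoidHom)) ?_
  have hχ : Function.Surjective χ := by
    rintro ⟨y, hy⟩
    obtain ⟨x, rfl⟩ := hψ y
    exact ⟨⟨x, hy⟩, rfl⟩
  rw [MonoidHom.coe_comp, MonoidHom.coe_comp]
  exact hφ.comp (hχ.comp e.symm.surjective)

theorem involves_of_section {G : Type u} [Group G] (K R : Subgroup G)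
    [hR : (R.subgroupOf K).Normal] : Cfsg.Involves (↥K ⧸ R.subgroupOf K) G :=
  ⟨K, R, hR, ⟨MulEquiv.refl _⟩⟩

theorem finite_of_involves {G : Type v} [Group G] [Finite G] {X : Type u} [Group X]
    (h : Cfsg.Involves X G) : Finite X := by
  obtain ⟨K, φ, hφ⟩ := exists_surjective_of_involves h
  exact Finite.of_surjective φ hφ

theorem card_le_of_involves {G : Type v} [Group G] [Finite G] {X : Type u} [Group X]
    (h : Cfsg.Involves X G) : Nat.card X ≤ Nat.card G := by
  obtain ⟨K, φ, hφ⟩ := exists_surjective_of_involves h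
  exact (Nat.card_le_card_of_surjective φ hφ).trans (Subgroup.card_le_card_group K)

theorem card_lt_of_ne_top {G : Type u} [Group G] [Finite G] {H : Subgroup G} (h : H ≠ ⊤) :
    Nat.card ↥H < Nat.card G :=
  lt_of_le_of_ne (Subgroup.card_le_card_group H) fun he => h (Subgroup.eq_top_of_card_eq H he)

theorem card_quotient_lt {G : Type u} [Group G] [Finite G] {N : Subgroup G} (h : N ≠ ⊥) :
    Nat.card (G ⧸ N) < Nat.card G := by
  rw [Subgroup.card_eq_card_quotient_mul_card_subgroup N]
  exact lt_mul_of_one_lt_right Nat.card_pos (Subgroup.one_lt_card_iff_ne_bot N |>.mpr h)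

end Sections

section SylowIn

variable {G : Type u} [Group G] [Finite G] {p : ℕ} [Fact p.Prime]

omit [Finite G] in
/-- A `p`-subgroup of index prime to `p` in `H`, as a Sylow subgroup of `↥H`. -/
theorem exists_sylow_eq {T H : Subgroup G} (hT : IsPGroup p ↥T) (hidx : ¬ p ∣ T.relIndex H) :
    ∃ R : Sylow p ↥H, (R : Subgroup ↥H) = T.subgroupOf H :=
  ⟨(hT.comap_subtype (K := H)).toSylow hidx, rfl⟩

theorem not_dvd_relIndex_of_sylow {H : Subgroup G} (R : Sylow p ↥H) :
    ¬ p ∣ ((R : Subgroup ↥H).map H.subtype).relIndex H := by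
  rw [Subgroup.relIndex, Subgroup.subgroupOf,
    Subgroup.comap_map_eq_self_of_injective H.subtype_injective]
  exact R.not_dvd_index

/-- A `p`-subgroup of `H` is conjugate under `H` into any Sylow subgroup of `H`. -/
theorem exists_conj_le_of_relIndex {T H U : Subgroup G} (hT : IsPGroup p ↥T)
    (hidx : ¬ p ∣ T.relIndex H) (hUH : U ≤ H) (hU : IsPGroup p ↥U) :
    ∃ h ∈ H, U.map (MulAut.conj h).toMonoidHom ≤ T := by
  obtain ⟨R, hR⟩ := exists_sylow_eq hT hidx
  obtain ⟨R', hR'⟩ := (hU.comap_subtype (K := H)).exists_le_sylow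
  obtain ⟨c, hc⟩ := MulAction.exists_smul_eq ↥H R' R
  refine ⟨c, c.2, ?_⟩
  rintro _ ⟨y, hy, rfl⟩
  have h1 : c * (⟨y, hUH hy⟩ : ↥H) * c⁻¹ ∈ R := by
    rw [← hc]
    exact ⟨_, hR' (show (⟨y, hUH hy⟩ : ↥H) ∈ U.comap H.subtype from hy), rfl⟩
  have h2 : c * (⟨y, hUH hy⟩ : ↥H) * c⁻¹ ∈ T.subgroupOf H := hR ▸ h1
  exact h2

theorem exists_conj_eq_of_relIndex {T T' H : Subgroup G} (hT : IsPGroup p ↥T) (hTH : T ≤ H)
    (hidx : ¬ p ∣ T.relIndex H) (hT' : IsPGroup p ↥T') (hTH' : T' ≤ H)
    (hidx' : ¬ p ∣ T'.relIndex H) :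
    ∃ h ∈ H, T'.map (MulAut.conj h).toMonoidHom = T := by
  obtain ⟨h, hh, hle⟩ := exists_conj_le_of_relIndex hT hidx hTH' hT'
  refine ⟨h, hh, Subgroup.eq_of_le_of_card_ge hle ?_⟩
  obtain ⟨h', hh', hle'⟩ := exists_conj_le_of_relIndex hT' hidx' hTH hT
  calc Nat.card ↥T = Nat.card ↥(T.map (MulAut.conj h').toMonoidHom) := (card_conjMap T h').symm
    _ ≤ Nat.card ↥T' := Subgroup.card_le_of_le hle'
    _ = Nat.card ↥(T'.map (MulAut.conj h).toMonoidHom) := (card_conjMap T' h).symm

/-- A Sylow subgroup of `H` meets a subgroup `L ≤ H` normalized by `H` in a Sylow subgroup of it. -/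
theorem not_dvd_relIndex_inf {T H L : Subgroup G} (hT : IsPGroup p ↥T)
    (hidx : ¬ p ∣ T.relIndex H) (hLH : L ≤ H) (hn : H ≤ Subgroup.normalizer (L : Set G)) :
    ¬ p ∣ (T ⊓ L).relIndex L := by
  obtain ⟨R⟩ : Nonempty (Sylow p ↥L) := Sylow.nonempty
  set R' := (R : Subgroup ↥L).map L.subtype with hR'def
  have hR'L : R' ≤ L := Subgroup.map_subtype_le _
  obtain ⟨h, hh, hle⟩ := exists_conj_le_of_relIndex hT hidx (hR'L.trans hLH) (R.2.map L.subtype)
  have hLh : L.map (MulAut.conj h).toMonoidHom = L := conjMap_eq_self (hn hh)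
  have hle' : R'.map (MulAut.conj h).toMonoidHom ≤ T ⊓ L :=
    le_inf hle ((Subgroup.map_mono hR'L).trans hLh.le)
  intro hdvd
  apply not_dvd_relIndex_of_sylow R
  have h1 : (R'.map (MulAut.conj h).toMonoidHom).relIndex L = R'.relIndex L := by
    conv_lhs => rw [← hLh]
    exact Subgroup.relIndex_map_map_of_injective _ _ (MulAut.conj h).injective
  rw [← hR'def, ← h1]
  exact hdvd.trans (Subgroup.relIndex_dvd_of_le_left L hle')

/-- If the kernel of a surjection has order prime to `p`, normalizers of `p`-subgroups lift. -/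
theorem map_normalizer_eq {H : Type v} [Group H] (f : G →* H) (hf : Function.Surjective f)
    (hker : (Nat.card f.ker).Coprime p) {U : Subgroup G} (hU : IsPGroup p ↥U) :
    (Subgroup.normalizer (U : Set G)).map f =
      Subgroup.normalizer ((U.map f : Subgroup H) : Set H) := by
  refine le_antisymm (Subgroup.le_normalizer_map f) fun y hy => ?_
  obtain ⟨g, rfl⟩ := hf y
  have hcop : (Nat.card ↥U).Coprime (Nat.card ↥f.ker) := by
    obtain ⟨k, hk⟩ := IsPGroup.iff_card.mp hU
    rw [hk]
    exact (hker.pow_right k).symm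
  have hle : U.map (MulAut.conj g).toMonoidHom ≤ U ⊔ f.ker := by
    rintro _ ⟨x, hx, rfl⟩
    obtain ⟨x', hx', he⟩ := (Subgroup.mem_normalizer_iff.mp hy (f x)).mp ⟨x, hx, rfl⟩
    have hk : x'⁻¹ * (g * x * g⁻¹) ∈ f.ker := by
      rw [MonoidHom.mem_ker, map_mul, map_mul, map_mul, map_inv, map_inv, he]
      group
    simpa [MulAut.conj_apply] using Subgroup.mul_mem_sup hx' hk
  have hcard : Nat.card ↥(U.map (MulAut.conj g).toMonoidHom) = Nat.card ↥U := card_conjMap U g
  have hUnil : Group.IsNilpotent ↥U := hU.isNilpotent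
  obtain ⟨n, hn, hne⟩ := Coprime.exists_conj_eq_of_le_sup
    (le_top.trans (Subgroup.normalizer_eq_top (H := f.ker)).ge) hle hcard hcop
    (Or.inr inferInstance)
  refine ⟨n⁻¹ * g, ?_, ?_⟩
  · rw [SetLike.mem_coe, Subgroup.mem_normalizer_iff_map_conj_eq]
    show U.map (MulAut.conj (n⁻¹ * g)).toMonoidHom = U
    have hne' : U.map (MulAut.conj n).toMonoidHom = U.map (MulAut.conj g).toMonoidHom := hne
    rw [conjMap_mul, ← hne', ← conjMap_mul, inv_mul_cancel, conjMap_one]
  · rw [map_mul, map_inv, MonoidHom.mem_ker.mp hn, inv_one, one_mul]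

end SylowIn

end Cfsg.Agent.ConjFun
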