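import Mathlib.GroupTheory.PGroup
import Mathlib.GroupTheory.OrderOfElement

/-!
# The `p`-part and the `p'`-part of an element
-/

set_option autoImplicit false

namespace Cfsg.Agent.ConjFun

/-- An element is the product of its commuting `p`-part and `p'`-part. -/
theorem exists_decomp {p : ℕ} [Fact p.Prime] {G : Type*} [Group G] [Finite G] (g : G) :
    ∃ g₁ g₂ : G, g = g₁ * g₂ ∧ IsPGroup p ↥(Subgroup.zpowers g₁) ∧ (orderOf g₂).Coprime p ∧
      ∃ m : ℕ, g₁ = g ^ m := by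
  have hp : p.Prime := Fact.out
  have hn : orderOf g ≠ 0 := (orderOf_pos g).ne'
  obtain ⟨k, r, hr, hkr⟩ := Nat.exists_eq_pow_mul_and_not_dvd hn p hp.ne_one
  have hcop : r.Coprime (p ^ k) := (((hp.coprime_iff_not_dvd).mpr hr).symm).pow_right k
  obtain ⟨m, hm0, hmk⟩ := Nat.chineseRemainder hcop 0 1
  refine ⟨g ^ m, (g ^ m)⁻¹ * g, (mul_inv_cancel_left _ _).symm, ?_, ?_, m, rfl⟩
  · refine IsPGroup.of_card_dvd_pow (n := k) ?_
    rw [Nat.card_zpowers]
    refine orderOf_dvd_of_pow_eq_one ?_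
    rw [← pow_mul]
    obtain ⟨t, rfl⟩ := (Nat.modEq_zero_iff_dvd.mp hm0)
    rw [show r * t * p ^ k = orderOf g * t by rw [hkr]; ring, pow_mul, pow_orderOf_eq_one, one_pow]
  · refine Nat.Coprime.coprime_dvd_left ?_ ((hp.coprime_iff_not_dvd).mpr hr).symm
    refine orderOf_dvd_of_pow_eq_one ?_
    rw [Commute.mul_pow ((Commute.pow_self g m).inv_left), inv_pow, ← pow_mul, inv_mul_eq_one,
      pow_eq_pow_iff_modEq, hkr, mul_comm (p ^ k) r]
    exact (Nat.modEq_and_modEq_iff_modEq_mul hcop).mp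
      ⟨by simp [Nat.ModEq], by simpa using hmk.mul_right r⟩

end Cfsg.Agent.ConjFun
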