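import Cfsg.Agent.Lib.ConjFun.Basic
import Cfsg.Agent.Lib.ConjFun.Parts
import Cfsg.Agent.Lib.Coprime.Commutator
import Cfsg.Agent.Lib.Fusion.Stabilizer
import Cfsg.Agent.Lib.PGroup.Frattini
import Cfsg.Agent.Lib.Transfer.FocalLocal
import Cfsg.Prelude.Def_PLocal

/-!
# Action on chief factors

* `kerOn U V`, `chiefKer A`: kernels of the action on one, or on all, chief factors below `A`
* `mem_centralizer_of_mem_chiefKer`: coprime elements of `chiefKer A` centralize a `p`-group `A`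
* `le_sSup_minInv`: a chief factor is generated by minimal invariant subgroups of a subnormal subgroup
* `commutator_zpowers_le_of`: quadratic action from elements
-/

set_option autoImplicit false

namespace Cfsg.Agent.ConjFun

open scoped commutatorElement

universe u

variable {G : Type u} [Group G]

/-- The elements acting trivially on `U / V`. -/
def kerOn (U V : Subgroup G) (hV : V.Normal) : Subgroup G where
  carrier := {x | ∀ u ∈ U, ⁅u, x⁆ ∈ V}
  one_mem' u _ := by simp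
  mul_mem' {a b} ha hb u hu := by
    rw [show ⁅u, a * b⁆ = ⁅u, a⁆ * (a * ⁅u, b⁆ * a⁻¹) by simp [commutatorElement_def, mul_assoc]]
    exact mul_mem (ha u hu) (hV.conj_mem _ (hb u hu) a)
  inv_mem' {a} ha u hu := by
    have h := hV.conj_mem _ (inv_mem (ha u hu)) a⁻¹
    rw [show ⁅u, a⁻¹⁆ = a⁻¹ * ⁅u, a⁆⁻¹ * a⁻¹⁻¹ by simp [commutatorElement_def, mul_assoc]]
    exact h

theorem le_kerOn_iff {U V K : Subgroup G} {hV : V.Normal} : K ≤ kerOn U V hV ↔ ⁅U, K⁆ ≤ V := by
  rw [Subgroup.commutator_le]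
  exact ⟨fun h u hu k hk => h hk u hu, fun h k hk u hu => h u hu k hk⟩

theorem kerOn_normal {U V : Subgroup G} (hU : U.Normal) (hV : V.Normal) :
    (kerOn U V hV).Normal := by
  refine ⟨fun x hx g u hu => ?_⟩
  have h1 : g⁻¹ * u * g ∈ U := by simpa using hU.conj_mem u hu g⁻¹
  rw [show ⁅u, g * x * g⁻¹⁆ = g * ⁅g⁻¹ * u * g, x⁆ * g⁻¹ by simp [commutatorElement_def, mul_assoc]]
  exact hV.conj_mem _ (hx _ h1) g

/-- The elements acting trivially on all chief factors below `A`. -/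
def chiefKer (A : Subgroup G) : Subgroup G :=
  ⨅ (U : Subgroup G) (V : Subgroup G) (h : Cfsg.IsChiefFactor U V) (_ : U ≤ A), kerOn U V h.2.2.1

theorem mem_chiefKer {A : Subgroup G} {x : G} :
    x ∈ chiefKer A ↔ ∀ U V : Subgroup G, Cfsg.IsChiefFactor U V → U ≤ A → ∀ u ∈ U, ⁅u, x⁆ ∈ V := by
  simp only [chiefKer, Subgroup.mem_iInf]
  rfl

theorem mem_chiefKer_iff_commutator {A : Subgroup G} {x : G} :
    x ∈ chiefKer A ↔ ∀ U V : Subgroup G, Cfsg.IsChiefFactor U V → U ≤ A →
      ⁅U, Subgroup.zpowers x⁆ ≤ V := by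
  rw [mem_chiefKer]
  refine forall₄_congr fun U V h _ => ?_
  rw [← le_kerOn_iff (hV := h.2.2.1), Subgroup.zpowers_le]
  rfl

instance chiefKer_normal (A : Subgroup G) : (chiefKer A).Normal := by
  refine ⟨fun x hx g => mem_chiefKer.mpr fun U V h hU u hu => ?_⟩
  exact (kerOn_normal h.2.1 h.2.2.1).conj_mem x (fun u hu => mem_chiefKer.mp hx U V h hU u hu) g u hu

theorem centralizer_le_chiefKer (A : Subgroup G) : Subgroup.centralizer (A : Set G) ≤ chiefKer A :=
  fun x hx => mem_chiefKer.mpr fun U V _ hU u hu => by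
    rw [commutatorElement_eq_one_iff_mul_comm.mpr (hx u (hU hu))]
    exact one_mem _

/-- The top chief factor below a nontrivial normal subgroup. -/
theorem exists_chief_top [Finite G] {U : Subgroup G} [hUn : U.Normal] (hU : U ≠ ⊥) :
    ∃ V : Subgroup G, Cfsg.IsChiefFactor U V := by
  obtain ⟨V, hV⟩ := (Set.toFinite {V : Subgroup G | V.Normal ∧ V < U}).exists_maximal
    ⟨⊥, inferInstance, bot_lt_iff_ne_bot.mpr hU⟩
  obtain ⟨hVn, hVU⟩ := hV.prop
  refine ⟨V, hVU, hUn, hVn, fun N hN hVN hNU => ?_⟩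
  rcases eq_or_lt_of_le hNU with h1 | h1
  · exact Or.inr h1
  · exact Or.inl (le_antisymm (hV.le_of_ge ⟨hN, h1⟩ hVN) hVN)

variable [Finite G] {p : ℕ}

/-- A coprime element trivial on all chief factors below a normal `p`-subgroup centralizes it. -/
theorem mem_centralizer_of_mem_chiefKer {P : Subgroup G} [P.Normal] (hP : IsPGroup p ↥P) {x : G}
    (hx : x ∈ chiefKer P) (hcop : (orderOf x).Coprime p) : x ∈ Subgroup.centralizer (P : Set G) := by
  suffices H : ∀ (n : ℕ) (N : Subgroup G), N.Normal → N ≤ P → Nat.card ↥N = n →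
      ∀ y ∈ N, x * y = y * x from fun y hy => (H _ P inferInstance le_rfl rfl y hy).symm
  intro n
  induction n using Nat.strong_induction_on with
  | _ n IH =>
  intro N hN hNP hn y hy
  by_cases hbot : N = ⊥
  · rw [hbot, Subgroup.mem_bot] at hy
    simp [hy]
  haveI := hN
  obtain ⟨V, hV⟩ := exists_chief_top hbot
  have hlt : Nat.card ↥V < n := hn ▸ lt_of_le_of_ne (Subgroup.card_le_of_le hV.1.le)
    fun h => hV.1.ne (Subgroup.eq_of_le_of_card_ge hV.1.le h.ge)
  have hfix := IH _ hlt V hV.2.2.1 (hV.1.le.trans hNP) rfl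
  let a : MulAut ↥P := MulAut.conjNormal x
  have ha : (orderOf a).Coprime p := hcop.coprime_dvd_left (orderOf_map_dvd _ x)
  set w : ↥P := (⟨y, hNP hy⟩ : ↥P)⁻¹ * a ⟨y, hNP hy⟩ with hw
  have hwV : (w : G) ∈ V := by
    rw [hw]
    show y⁻¹ * (x * y * x⁻¹) ∈ V
    have h1 := mem_chiefKer.mp hx N V hV hNP y⁻¹ (inv_mem hy)
    simpa [commutatorElement_def, mul_assoc] using h1
  have hwfix : a w = w := Subtype.ext (by
    show x * (w : G) * x⁻¹ = w
    rw [hfix _ hwV, mul_inv_cancel_right])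
  have h2 : x * y * x⁻¹ = y :=
    congrArg Subtype.val (Fusion.eq_self_of_translate hP ha (x := ⟨y, hNP hy⟩) hwfix)
  exact mul_inv_eq_iff_eq_mul.mp h2

/-- Modulo the centralizer, the kernel of all chief factors of a `p`-group is a `p`-group. -/
theorem exists_pow_mem_centralizer_of_mem_chiefKer [Fact p.Prime] {P : Subgroup G} [P.Normal]
    (hP : IsPGroup p ↥P) {x : G} (hx : x ∈ chiefKer P) :
    ∃ k : ℕ, x ^ p ^ k ∈ Subgroup.centralizer (P : Set G) := by
  obtain ⟨x₁, x₂, hxe, hx₁, hx₂, m, hm⟩ := exists_decomp (p := p) x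
  have hx₂K : x₂ ∈ chiefKer P := by
    rw [show x₂ = x₁⁻¹ * x by rw [hxe, inv_mul_cancel_left], hm]
    exact mul_mem (inv_mem (pow_mem hx m)) hx
  obtain ⟨k, hk⟩ := IsPGroup.iff_orderOf.mp hx₁ ⟨x₁, Subgroup.mem_zpowers x₁⟩
  rw [Subgroup.orderOf_mk] at hk
  refine ⟨k, ?_⟩
  have hc : Commute x₁ x₂ := by
    have h1 : x₂ = x₁⁻¹ * x := by rw [hxe, inv_mul_cancel_left]
    rw [h1, hm]
    exact ((Commute.refl (x ^ m)).inv_right).mul_right (Commute.pow_self x m)
  rw [hxe, hc.mul_pow, ← hk, pow_orderOf_eq_one, one_mul]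
  exact pow_mem (mem_centralizer_of_mem_chiefKer hP hx₂K hx₂) _

omit [Finite G]

/-- `R` is minimal among the subgroups over `V` below `U` normalized by `M`. -/
def IsMinInv (U V M R : Subgroup G) : Prop :=
  V < R ∧ R ≤ U ∧ M ≤ Subgroup.normalizer (R : Set G) ∧
    ∀ R' : Subgroup G, V ≤ R' → R' ≤ R → M ≤ Subgroup.normalizer (R' : Set G) → R' = V ∨ R' = R

theorem le_normalizer_conjMap {M R : Subgroup G} {x : G}
    (hx : x ∈ Subgroup.normalizer (M : Set G)) (h : M ≤ Subgroup.normalizer (R : Set G)) :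
    M ≤ Subgroup.normalizer ((R.map (MulAut.conj x).toMonoidHom : Subgroup G) : Set G) := by
  rw [← conjMap_normalizer]
  exact (conjMap_eq_self hx).ge.trans (Subgroup.map_mono h)

theorem isMinInv_conjMap {U V M R : Subgroup G} (hU : U.Normal) (hV : V.Normal) {x : G}
    (hx : x ∈ Subgroup.normalizer (M : Set G)) (h : IsMinInv U V M R) :
    IsMinInv U V M (R.map (MulAut.conj x).toMonoidHom) := by
  haveI := hU
  haveI := hV
  have hUx : ∀ y : G, U.map (MulAut.conj y).toMonoidHom = U := fun y =>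
    conjMap_eq_self ((Subgroup.normalizer_eq_top (H := U)).ge (Subgroup.mem_top y))
  have hVx : ∀ y : G, V.map (MulAut.conj y).toMonoidHom = V := fun y =>
    conjMap_eq_self ((Subgroup.normalizer_eq_top (H := V)).ge (Subgroup.mem_top y))
  obtain ⟨h1, h2, h3, h4⟩ := h
  refine ⟨?_, (Subgroup.map_mono h2).trans (hUx x).le, le_normalizer_conjMap hx h3, ?_⟩
  · rw [← hVx x]
    exact (Subgroup.map_lt_map_iff_of_injective (MulAut.conj x).injective).mpr h1
  intro R' h5 h6 h7
  have hback : (R.map (MulAut.conj x).toMonoidHom).map (MulAut.conj x⁻¹).toMonoidHom = R := by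
    rw [← conjMap_mul, inv_mul_cancel, conjMap_one]
  have hforth : (R'.map (MulAut.conj x⁻¹).toMonoidHom).map (MulAut.conj x).toMonoidHom = R' := by
    rw [← conjMap_mul, mul_inv_cancel, conjMap_one]
  rcases h4 (R'.map (MulAut.conj x⁻¹).toMonoidHom) ((hVx x⁻¹).ge.trans (Subgroup.map_mono h5))
    ((Subgroup.map_mono h6).trans hback.le) (le_normalizer_conjMap (inv_mem hx) h7) with h8 | h8
  · left; rw [← hforth, h8, hVx]
  · right; rw [← hforth, h8]

variable [Finite G]

/-- Generation by minimal invariant subgroups passes to normal subgroups. -/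
theorem le_sSup_minInv_step {U V M M' : Subgroup G} (hU : U.Normal) (hV : V.Normal) (hMM : M ≤ M')
    (hn : M' ≤ Subgroup.normalizer (M : Set G)) (h : U ≤ sSup {R | IsMinInv U V M' R}) :
    U ≤ sSup {R | IsMinInv U V M R} := by
  refine h.trans (sSup_le fun R hR => ?_)
  obtain ⟨hVR, hRU, hRn, hRmin⟩ := hR
  obtain ⟨R₀, hR₀⟩ := (Set.toFinite {R₀ : Subgroup G | V < R₀ ∧ R₀ ≤ R ∧
    M ≤ Subgroup.normalizer (R₀ : Set G)}).exists_minimal ⟨R, hVR, le_rfl, hMM.trans hRn⟩
  obtain ⟨hVR₀, hR₀R, hR₀n⟩ := hR₀.prop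
  have hmin₀ : IsMinInv U V M R₀ := by
    refine ⟨hVR₀, hR₀R.trans hRU, hR₀n, fun R' h1 h2 h3 => ?_⟩
    rcases eq_or_lt_of_le h1 with h4 | h4
    · exact Or.inl h4.symm
    · exact Or.inr (le_antisymm h2 (hR₀.le_of_le ⟨h4, h2.trans hR₀R, h3⟩ h2))
  set J : Subgroup G := ⨆ x : ↥M', R₀.map (MulAut.conj (x : G)).toMonoidHom with hJ
  have hJn : M' ≤ Subgroup.normalizer (J : Set G) := by
    intro y hy
    rw [Subgroup.mem_normalizer_iff_map_conj_eq]
    refine Subgroup.eq_of_le_of_card_ge (H := J.map (MulAut.conj y).toMonoidHom) ?_ (card_conjMap _ _).ge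
    rw [hJ, Subgroup.map_iSup]
    refine iSup_le fun x => ?_
    rw [← conjMap_mul]
    exact le_iSup (fun x : ↥M' => R₀.map (MulAut.conj (x : G)).toMonoidHom) (⟨y, hy⟩ * x)
  have hR₀J : R₀ ≤ J := by
    have h1 := le_iSup (fun x : ↥M' => R₀.map (MulAut.conj (x : G)).toMonoidHom) 1
    simp only [Subgroup.coe_one, conjMap_one] at h1
    exact h1
  have hJR : J ≤ R := iSup_le fun x =>
    (Subgroup.map_mono hR₀R).trans (conjMap_eq_self (hRn x.2)).le
  rcases hRmin J (hVR₀.le.trans hR₀J) hJR hJn with h1 | h1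
  · exact absurd (hR₀J.trans h1.le) hVR₀.not_ge
  · rw [← h1]
    exact iSup_le fun x => le_sSup (isMinInv_conjMap hU hV (hn x.2) hmin₀)

/-- A chief factor is generated by minimal invariant subgroups of `L`, when `C ≤ L ≤ N` with `C`, `N`
normal and `N/C` a `p`-group. -/
theorem le_sSup_minInv [Fact p.Prime] {U V C N L : Subgroup G} (hUV : Cfsg.IsChiefFactor U V)
    [C.Normal] [N.Normal] (hCL : C ≤ L) (hLN : L ≤ N)
    (hp : IsPGroup p ↥(N.map (QuotientGroup.mk' C))) : U ≤ sSup {R | IsMinInv U V L R} := by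
  obtain ⟨hlt, hUn, hVn, hmin⟩ := hUV
  suffices H : ∀ (n : ℕ) (M : Subgroup G), C ≤ M → M ≤ N → Nat.card ↥N - Nat.card ↥M = n →
      U ≤ sSup {R | IsMinInv U V M R} from H _ L hCL hLN rfl
  intro n
  induction n using Nat.strong_induction_on with
  | _ n IH =>
  intro M hCM hMN hn
  have htop : U ≤ sSup {R | IsMinInv U V (⊤ : Subgroup G) R} := by
    refine le_sSup ⟨hlt, le_rfl, le_top.trans (Subgroup.normalizer_eq_top (H := U)).ge,
      fun R' h1 h2 h3 => ?_⟩
    exact hmin R' (Subgroup.normalizer_eq_top_iff.mp (top_le_iff.mp h3)) h1 h2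
  rcases eq_or_lt_of_le hMN with h1 | h1
  · exact le_sSup_minInv_step hUn hVn le_top
      (by rw [h1]; exact (Subgroup.normalizer_eq_top (H := N)).ge) htop
  · set π := QuotientGroup.mk' C with hπ
    have hπs : Function.Surjective π := QuotientGroup.mk'_surjective C
    have hcomap : ∀ K : Subgroup G, C ≤ K → (K.map π).comap π = K := fun K hK => by
      rw [Subgroup.comap_map_eq, hπ, QuotientGroup.ker_mk', sup_eq_left.mpr hK]
    have hlt' : M.map π < N.map π := lt_of_le_of_ne (Subgroup.map_mono hMN) fun he =>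
      h1.ne (by rw [← hcomap M hCM, he, hcomap N (hCM.trans hMN)])
    have hgrow := Transfer.lt_inf_normalizer_of_lt hp hlt'
    have hM' : M < N ⊓ Subgroup.normalizer (M : Set G) := by
      refine lt_of_le_of_ne (le_inf hMN Subgroup.le_normalizer) fun he => hgrow.ne ?_
      refine le_antisymm hgrow.le ?_
      rw [← Subgroup.map_comap_eq_self_of_surjective hπs
        (N.map π ⊓ Subgroup.normalizer ((M.map π : Subgroup (G ⧸ C)) : Set (G ⧸ C)))]
      refine Subgroup.map_mono ?_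
      rw [Subgroup.comap_inf, hcomap N (hCM.trans hMN),
        Subgroup.comap_normalizer_eq_of_surjective _ hπs, hcomap M hCM, ← he]
    refine le_sSup_minInv_step hUn hVn hM'.le inf_le_right
      (IH _ ?_ _ (hCM.trans hM'.le) inf_le_left rfl)
    have h2 : Nat.card ↥M < Nat.card ↥(N ⊓ Subgroup.normalizer (M : Set G) : Subgroup G) :=
      lt_of_le_of_ne (Subgroup.card_le_of_le hM'.le) fun h =>
        hM'.ne (Subgroup.eq_of_le_of_card_ge hM'.le h.ge)
    have h3 : Nat.card ↥(N ⊓ Subgroup.normalizer (M : Set G) : Subgroup G) ≤ Nat.card ↥N :=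
      Subgroup.card_le_of_le inf_le_left
    omega

omit [Finite G] in
/-- `[X, ⟨g⟩] ≤ F` from the generator, if `g` normalizes `F`. -/
theorem commutator_zpowers_le_of {X F : Subgroup G} {g : G}
    (hg : g ∈ Subgroup.normalizer (F : Set G)) (h : ∀ u ∈ X, ⁅u, g⁆ ∈ F) :
    ⁅X, Subgroup.zpowers g⁆ ≤ F := by
  let K : Subgroup G :=
    { carrier := {x | x ∈ Subgroup.normalizer (F : Set G) ∧ ∀ u ∈ X, ⁅u, x⁆ ∈ F}
      one_mem' := ⟨one_mem _, fun u _ => by simp⟩
      mul_mem' := fun {a b} ha hb => ⟨mul_mem ha.1 hb.1, fun u hu => by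
        rw [show ⁅u, a * b⁆ = ⁅u, a⁆ * (a * ⁅u, b⁆ * a⁻¹) by
          simp [commutatorElement_def, mul_assoc]]
        exact mul_mem (ha.2 u hu) ((Subgroup.mem_normalizer_iff.mp ha.1 _).mp (hb.2 u hu))⟩
      inv_mem' := fun {a} ha => ⟨inv_mem ha.1, fun u hu => by
        rw [show ⁅u, a⁻¹⁆ = a⁻¹ * ⁅u, a⁆⁻¹ * a⁻¹⁻¹ by simp [commutatorElement_def, mul_assoc]]
        exact (Subgroup.mem_normalizer_iff.mp (inv_mem ha.1) _).mp (inv_mem (ha.2 u hu))⟩ }
  have hK : Subgroup.zpowers g ≤ K := Subgroup.zpowers_le.mpr ⟨hg, h⟩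
  exact Subgroup.commutator_le.mpr fun u hu x hx => (hK hx).2 u hu

end Cfsg.Agent.ConjFun
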