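import Cfsg.Agent.Lib.ConjFun.Chief
import Mathlib.RingTheory.Nilpotent.Basic

/-!
# The degree of the action on chief factors below a `p`-group with a critical subgroup

`iterCommutator_le_of_critical`: degree `i` below `Q` and `j` below `Z(Q)` give `i + j - 1` below `P`.
-/

set_option autoImplicit false

namespace Cfsg.Agent.ConjFun

open scoped commutatorElement

universe u

variable {G : Type u} [Group G]

theorem commutator_sup_le_sup {X V K : Subgroup G} [V.Normal] : ⁅X ⊔ V, K⁆ ≤ ⁅X, K⁆ ⊔ V := by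
  have h1 : (⁅X ⊔ V, K⁆).map (QuotientGroup.mk' V) = (⁅X, K⁆).map (QuotientGroup.mk' V) := by
    rw [Subgroup.map_commutator, Subgroup.map_commutator, Subgroup.map_sup,
      QuotientGroup.map_mk'_self, sup_bot_eq]
  have h2 := Subgroup.le_comap_map (QuotientGroup.mk' V) ⁅X ⊔ V, K⁆
  rw [h1, Subgroup.comap_map_eq, QuotientGroup.ker_mk'] at h2
  exact h2

theorem iterCommutator_sup_le {X V K : Subgroup G} [V.Normal] (k : ℕ) :
    Cfsg.iterCommutator (X ⊔ V) K k ≤ Cfsg.iterCommutator X K k ⊔ V := by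
  induction k with
  | zero => exact le_rfl
  | succ k ih => exact (Subgroup.commutator_mono ih le_rfl).trans commutator_sup_le_sup

theorem iterCommutator_mono {X Y K : Subgroup G} (h : X ≤ Y) (k : ℕ) :
    Cfsg.iterCommutator X K k ≤ Cfsg.iterCommutator Y K k := by
  induction k with
  | zero => exact h
  | succ k ih => exact Subgroup.commutator_mono ih le_rfl

theorem iterCommutator_le_of_le {U V K : Subgroup G} [V.Normal] {i k : ℕ} (hik : i ≤ k)
    (h : Cfsg.iterCommutator U K i ≤ V) : Cfsg.iterCommutator U K k ≤ V := by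
  induction hik with
  | refl => exact h
  | step _ ih => exact (Subgroup.commutator_mono ih le_rfl).trans (Subgroup.commutator_le_left V K)

theorem iterate_mem_iterCommutator {X : Subgroup G} {g : G} (m : ℕ) :
    ∀ {x : G}, x ∈ X → (fun y => ⁅y, g⁆)^[m] x ∈ Cfsg.iterCommutator X (Subgroup.zpowers g) m := by
  induction m with
  | zero => exact fun h => h
  | succ m ih =>
    intro x hx
    rw [Function.iterate_succ_apply']
    exact Subgroup.commutator_mem_commutator (ih hx) (Subgroup.mem_zpowers g)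

/-- Passing from elements to subgroups for iterated commutators into an abelian factor. -/
theorem iterCommutator_le_of_iterate {U V : Subgroup G} [hU : U.Normal] [hV : V.Normal]
    (hVU : V ≤ U) (hUU : ⁅U, U⁆ ≤ V) (g : G) (k : ℕ)
    (h : ∀ u ∈ U, (fun y => ⁅y, g⁆)^[k] u ∈ V) :
    Cfsg.iterCommutator U (Subgroup.zpowers g) k ≤ V := by
  set d : G → G := fun y => ⁅y, g⁆ with hd
  set π := QuotientGroup.mk' V with hπ
  have hcomm : ∀ a ∈ U, ∀ b ∈ U, π a * π b = π b * π a := fun a ha b hb => by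
    rw [← commutatorElement_eq_one_iff_mul_comm, ← map_commutatorElement]
    exact (QuotientGroup.eq_one_iff _).mpr (hUU (Subgroup.commutator_mem_commutator ha hb))
  have hdU : ∀ (m : ℕ) u, u ∈ U → d^[m] u ∈ U := by
    intro m
    induction m with
    | zero => exact fun u hu => hu
    | succ m ih =>
      intro u hu
      rw [Function.iterate_succ_apply']
      exact Subgroup.commutator_le_left U _ (Subgroup.commutator_mem_commutator (ih u hu)
        (Subgroup.mem_zpowers g))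
  have hmul : ∀ (m : ℕ), ∀ a ∈ U, ∀ b ∈ U, π (d^[m] (a * b)) = π (d^[m] a) * π (d^[m] b) := by
    intro m
    induction m with
    | zero => exact fun a _ b _ => map_mul π a b
    | succ m ih =>
      intro a ha b hb
      have ha' := hdU m a ha
      have hb' := hdU m b hb
      have h1 : π (d^[m + 1] (a * b)) = ⁅π (d^[m] a) * π (d^[m] b), π g⁆ := by
        rw [Function.iterate_succ_apply', hd]
        show π ⁅_, g⁆ = _
        rw [map_commutatorElement, ← ih a ha b hb]
      have h2 : ∀ c, π (d^[m + 1] c) = ⁅π (d^[m] c), π g⁆ := fun c => by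
        rw [Function.iterate_succ_apply', hd]
        exact map_commutatorElement π _ g
      rw [h1, show ⁅π (d^[m] a) * π (d^[m] b), π g⁆ = π (d^[m] a) * ⁅π (d^[m] b), π g⁆ *
        (π (d^[m] a))⁻¹ * ⁅π (d^[m] a), π g⁆ by simp [commutatorElement_def, mul_assoc],
        ← h2, ← h2]
      rw [hcomm _ ha' _ (hdU (m + 1) b hb), mul_inv_cancel_right]
      exact hcomm _ (hdU (m + 1) b hb) _ (hdU (m + 1) a ha)
  let F : ℕ → Subgroup G := fun m =>
    { carrier := {u | u ∈ U ∧ π (d^[m] u) = 1}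
      one_mem' := ⟨one_mem U, by
        have h1 := hmul m 1 (one_mem U) 1 (one_mem U)
        rwa [one_mul, left_eq_mul] at h1⟩
      mul_mem' := fun {a b} ha hb => ⟨mul_mem ha.1 hb.1, by
        rw [hmul m a ha.1 b hb.1, ha.2, hb.2, one_mul]⟩
      inv_mem' := fun {a} ha => ⟨inv_mem ha.1, by
        have h0 : π (d^[m] 1) = 1 := by
          have h1 := hmul m 1 (one_mem U) 1 (one_mem U)
          rwa [one_mul, left_eq_mul] at h1
        have h1 := hmul m a ha.1 a⁻¹ (inv_mem ha.1)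
        rw [mul_inv_cancel, h0, ha.2, one_mul] at h1
        exact h1.symm⟩ }
  have hgF : ∀ m, g ∈ Subgroup.normalizer (F m : Set G) := by
    intro m
    have hcj : ∀ (x : G), (x = g ∨ x = g⁻¹) → ∀ u, d^[m] (x * u * x⁻¹) = x * d^[m] u * x⁻¹ := by
      intro x hx
      induction m with
      | zero => exact fun u => rfl
      | succ m ih =>
        intro u
        rw [Function.iterate_succ_apply', Function.iterate_succ_apply', ih u, hd]
        show ⁅_, g⁆ = _
        rcases hx with rfl | rfl <;> simp [commutatorElement_def, mul_assoc]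
    have hone : ∀ x, (x = g ∨ x = g⁻¹) → ∀ u ∈ F m, x * u * x⁻¹ ∈ F m := fun x hx u hu =>
      ⟨hU.conj_mem u hu.1 x, by rw [hcj x hx, map_mul, map_mul, hu.2, mul_one, map_inv, mul_inv_cancel]⟩
    rw [Subgroup.mem_normalizer_iff]
    refine fun u => ⟨hone g (Or.inl rfl) u, fun hu => ?_⟩
    have := hone g⁻¹ (Or.inr rfl) _ hu
    simpa [mul_assoc] using this
  suffices H : ∀ m, m ≤ k → Cfsg.iterCommutator U (Subgroup.zpowers g) m ≤ F (k - m) by
    intro x hx
    have h1 := H k le_rfl hx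
    rw [Nat.sub_self] at h1
    exact (QuotientGroup.eq_one_iff x).mp h1.2
  intro m
  induction m with
  | zero => exact fun _ u hu => ⟨hu, (QuotientGroup.eq_one_iff _).mpr (h u hu)⟩
  | succ m ih =>
    intro hm
    refine (Subgroup.commutator_mono (ih (by omega)) le_rfl).trans
      (commutator_zpowers_le_of (hgF _) fun u hu => ⟨Subgroup.commutator_le_left U _
        (Subgroup.commutator_mem_commutator hu.1 (Subgroup.mem_zpowers g)), ?_⟩)
    show π (d^[k - (m + 1)] (d u)) = 1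
    rw [← Function.iterate_succ_apply, show (k - (m + 1)).succ = k - m by omega]
    exact hu.2

/-- Elements pairing `X/X'` into `Y/Y'`: the degrees add up. -/
theorem iterate_mem_kerOn {X X' Y Y' U : Subgroup G} [X.Normal] [Y.Normal] [hY' : Y'.Normal]
    [hU : U.Normal] (hYY : ⁅Y, Y⁆ ≤ Y') (hYU : ⁅Y, U⁆ ≤ Y') (hYX : ⁅Y, X⁆ ≤ Y')
    (hUX : ∀ a ∈ U, ∀ x ∈ X, ⁅x, a⁆ ∈ Y) (hUX' : ∀ a ∈ U, ∀ x ∈ X', ⁅x, a⁆ ∈ Y')
    (g : G) {i j k : ℕ} (hk : i + j ≤ k + 1)
    (hXi : Cfsg.iterCommutator X (Subgroup.zpowers g) i ≤ X')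
    (hYj : Cfsg.iterCommutator Y (Subgroup.zpowers g) j ≤ Y') {a : G} (ha : a ∈ U) :
    (fun y => ⁅y, g⁆)^[k] a ∈ kerOn X Y' hY' := by
  set π := QuotientGroup.mk' Y' with hπ
  set Yb := Y.map π with hYb
  haveI : Yb.Normal := Subgroup.Normal.map inferInstance _ (QuotientGroup.mk'_surjective Y')
  have hYbc : IsMulCommutative ↥Yb := by
    refine ⟨⟨?_⟩⟩
    rintro ⟨_, y, hy, rfl⟩ ⟨_, z, hz, rfl⟩
    refine Subtype.ext ?_
    show π y * π z = π z * π y
    rw [← commutatorElement_eq_one_iff_mul_comm, ← map_commutatorElement]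
    exact (QuotientGroup.eq_one_iff _).mpr (hYY (Subgroup.commutator_mem_commutator hy hz))
  letI : CommGroup ↥Yb := { (inferInstance : Group ↥Yb) with mul_comm := hYbc.is_comm.comm }
  have hfix : ∀ y ∈ Y, ∀ b, (b ∈ U ∨ b ∈ X) → π b * π y * (π b)⁻¹ = π y := by
    intro y hy b hb
    have h1 : ⁅y, b⁆ ∈ Y' := hb.elim (fun h => hYU (Subgroup.commutator_mem_commutator hy h))
      (fun h => hYX (Subgroup.commutator_mem_commutator hy h))
    have h2 : π y * π b = π b * π y := by
      rw [← commutatorElement_eq_one_iff_mul_comm, ← map_commutatorElement]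
      exact (QuotientGroup.eq_one_iff _).mpr h1
    rw [← h2, mul_inv_cancel_right]
  -- the pairing
  let c : ↥U → (↥X →* ↥Yb) := fun a => MonoidHom.mk'
    (fun x => ⟨π ⁅(x : G), (a : G)⁆, _, hUX a a.2 x x.2, rfl⟩) fun x y => Subtype.ext (by
      show π ⁅((x * y : ↥X) : G), (a : G)⁆ = π ⁅(x : G), (a : G)⁆ * π ⁅(y : G), (a : G)⁆
      rw [Subgroup.coe_mul, show ⁅(x : G) * y, (a : G)⁆ = (x : G) * ⁅(y : G), (a : G)⁆ * (x : G)⁻¹ *
        ⁅(x : G), (a : G)⁆ by simp [commutatorElement_def, mul_assoc], map_mul, map_mul, map_mul,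
        map_inv, hfix _ (hUX a a.2 y y.2) x (Or.inr x.2)]
      exact congrArg Subtype.val (mul_comm (⟨π ⁅(y : G), (a : G)⁆, _, hUX a a.2 y y.2, rfl⟩ : ↥Yb)
        ⟨π ⁅(x : G), (a : G)⁆, _, hUX a a.2 x x.2, rfl⟩))
  have hc_mul : ∀ a b, c (a * b) = c a * c b := fun a b => by
    ext x
    show π ⁅(x : G), (a : G) * (b : G)⁆ = π ⁅(x : G), (a : G)⁆ * π ⁅(x : G), (b : G)⁆
    rw [show ⁅(x : G), (a : G) * b⁆ = ⁅(x : G), (a : G)⁆ * ((a : G) * ⁅(x : G), (b : G)⁆ * (a : G)⁻¹)
      by simp [commutatorElement_def, mul_assoc], map_mul, map_mul π ((a : G) * _), map_mul, map_inv,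
      hfix _ (hUX b b.2 x x.2) a (Or.inl a.2)]
  let cH : ↥U →* (↥X →* ↥Yb) := MonoidHom.mk' c hc_mul
  -- conjugation by `g`
  let s : ↥Yb →* ↥Yb := (MulAut.conjNormal (π g) : MulAut ↥Yb).toMonoidHom
  let τ : ↥X →* ↥X := (MulAut.conjNormal g⁻¹ : MulAut ↥X).toMonoidHom
  let σ : ↥U →* ↥U := (MulAut.conjNormal g : MulAut ↥U).toMonoidHom
  have hequiv : ∀ (b : ↥U) (x : ↥X), cH (σ b) x = s (cH b (τ x)) := by
    intro b x
    refine Subtype.ext ?_
    show π ⁅(x : G), g * (b : G) * g⁻¹⁆ = π g * π ⁅g⁻¹ * (x : G) * g⁻¹⁻¹, (b : G)⁆ * (π g)⁻¹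
    rw [← map_inv, ← map_mul, ← map_mul]
    congr 1
    simp [commutatorElement_def, mul_assoc]
  -- the two commuting operators
  let A₁ : (↥X →* ↥Yb) →* (↥X →* ↥Yb) := MonoidHom.mk' (fun f => f / s.comp f) fun f h => by
    ext x
    simp [mul_div_mul_comm]
  let B₁ : (↥X →* ↥Yb) →* (↥X →* ↥Yb) :=
    MonoidHom.mk' (fun f => s.comp f / s.comp (f.comp τ)) fun f h => by
      ext x
      simp [mul_div_mul_comm]
  let A : AddMonoid.End (Additive (↥X →* ↥Yb)) := MonoidHom.toAdditive A₁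
  let B : AddMonoid.End (Additive (↥X →* ↥Yb)) := MonoidHom.toAdditive B₁
  let val : Additive (↥X →* ↥Yb) → (↥X →* ↥Yb) := fun f => Additive.toMul f
  have hAval : ∀ f x, val (A f) x = val f x / s (val f x) := fun f x => rfl
  have hBval : ∀ f x, val (B f) x = s (val f x) / s (val f (τ x)) := fun f x => rfl
  have hext : ∀ P R : AddMonoid.End (Additive (↥X →* ↥Yb)), (∀ f x, val (P f) x = val (R f) x) →
      P = R := fun P R h => AddMonoidHom.ext fun f => MonoidHom.ext fun x => h f x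
  have hcomm : Commute A B := hext _ _ fun f x => by
    show val (A (B f)) x = val (B (A f)) x
    rw [hAval, hBval, hBval, hAval, hAval, map_div, map_div, map_div, div_div_div_comm]
  have hApow : ∀ (m : ℕ) f x (y : G), y ∈ Y → (val f x : G ⧸ Y') = π y →
      (val ((A ^ m) f) x : G ⧸ Y') = π ((fun y => ⁅y, g⁆)^[m] y) := by
    intro m
    induction m with
    | zero => exact fun f x y _ h => h
    | succ m ih =>
      intro f x y hy h
      rw [pow_succ, Function.iterate_succ_apply]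
      refine ih (A f) x _ (Subgroup.commutator_le_left Y _
        (Subgroup.commutator_mem_commutator hy (Subgroup.mem_zpowers g))) ?_
      rw [hAval]
      show (val f x : G ⧸ Y') / (π g * (val f x : G ⧸ Y') * (π g)⁻¹) = _
      rw [h, map_commutatorElement]
      simp [commutatorElement_def, div_eq_mul_inv, mul_assoc]
  have hAj : A ^ j = 0 := hext _ _ fun f x => by
    obtain ⟨y, hy, hye⟩ := (val f x).2
    refine Subtype.ext ((hApow j f x y hy hye.symm).trans ?_)
    exact (QuotientGroup.eq_one_iff _).mpr (hYj (iterate_mem_iterCommutator j hy))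
  let d : ↥X → ↥X := fun x => x * (τ x)⁻¹
  have hdval : ∀ x : ↥X, (d x : G) = ⁅(x : G), g⁻¹⁆ := fun x => by
    show (x : G) * (g⁻¹ * (x : G) * g⁻¹⁻¹)⁻¹ = _
    simp [commutatorElement_def, mul_assoc]
  have hBpow : ∀ (m : ℕ) f x, val ((B ^ m) f) x = s^[m] (val f (d^[m] x)) := by
    intro m
    induction m with
    | zero => exact fun f x => rfl
    | succ m ih =>
      intro f x
      rw [pow_succ, Function.iterate_succ_apply' d, Function.iterate_succ_apply]
      show val ((B ^ m) (B f)) x = _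
      rw [ih (B f) x, hBval]
      show _ = s^[m] (s (val f (d^[m] x * (τ (d^[m] x))⁻¹)))
      rw [map_mul, map_inv, map_mul, map_inv, div_eq_mul_inv]
  have hBi : ∀ b : ↥U, val ((B ^ i) (Additive.ofMul (cH b))) = 1 := fun b => MonoidHom.ext fun x => by
    rw [hBpow]
    have h1 : cH b (d^[i] x) = 1 := by
      have h2 : (d^[i] x : G) ∈ Cfsg.iterCommutator X (Subgroup.zpowers g) i := by
        clear hXi
        induction i with
        | zero => exact x.2
        | succ m ih =>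
          rw [Function.iterate_succ_apply', hdval]
          exact Subgroup.commutator_mem_commutator (ih (by omega))
            (inv_mem (Subgroup.mem_zpowers g))
      exact Subtype.ext ((QuotientGroup.eq_one_iff _).mpr (hUX' b b.2 _ (hXi h2)))
    show s^[i] (cH b (d^[i] x)) = 1
    rw [h1]
    exact iterate_map_one s i
  have hAB : ∀ b : ↥U, (A + B) (Additive.ofMul (cH b)) = Additive.ofMul (cH (b * (σ b)⁻¹)) := by
    intro b
    apply Additive.toMul.injective
    ext x
    show ((val (A (Additive.ofMul (cH b))) * val (B (Additive.ofMul (cH b)))) x : G ⧸ Y') = _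
    rw [MonoidHom.mul_apply, hAval, hBval]
    show ((cH b x / s (cH b x) * (s (cH b x) / s (cH b (τ x))) : ↥Yb) : G ⧸ Y') =
      ((cH (b * (σ b)⁻¹) x : ↥Yb) : G ⧸ Y')
    rw [map_mul, map_inv, MonoidHom.mul_apply, MonoidHom.inv_apply, hequiv, div_mul_div_cancel,
      div_eq_mul_inv]
  have hABpow : ∀ (m : ℕ) (b : ↥U), ∃ b' : ↥U, (b' : G) = (fun y => ⁅y, g⁆)^[m] b ∧
      ((A + B) ^ m) (Additive.ofMul (cH b)) = Additive.ofMul (cH b') := by
    intro m
    induction m with
    | zero => exact fun b => ⟨b, rfl, rfl⟩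
    | succ m ih =>
      intro b
      obtain ⟨b', h1, h2⟩ := ih (b * (σ b)⁻¹)
      refine ⟨b', ?_, ?_⟩
      · rw [h1, Function.iterate_succ_apply]
        congr 1
        show (b : G) * (g * (b : G) * g⁻¹)⁻¹ = _
        simp [commutatorElement_def, mul_assoc]
      · rw [pow_succ]
        show ((A + B) ^ m) ((A + B) (Additive.ofMul (cH b))) = _
        rw [hAB, h2]
  -- the orbit of the pairings is killed by `B ^ i`
  have hzero : ((A + B) ^ k) (Additive.ofMul (cH ⟨a, ha⟩)) = 0 := by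
    rw [hcomm.add_pow']
    let ev : AddMonoid.End (Additive (↥X →* ↥Yb)) →+ Additive (↥X →* ↥Yb) :=
      { toFun := fun e => e (Additive.ofMul (cH ⟨a, ha⟩))
        map_zero' := rfl
        map_add' := fun _ _ => rfl }
    show ev _ = 0
    rw [map_sum]
    refine Finset.sum_eq_zero fun q hq => ?_
    rw [Finset.HasAntidiagonal.mem_antidiagonal] at hq
    rw [map_nsmul]
    show k.choose q.1 • ((A ^ q.1 * B ^ q.2) (Additive.ofMul (cH ⟨a, ha⟩))) = 0
    rcases Nat.lt_or_ge q.2 i with h | h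
    · have h1 : A ^ q.1 = 0 := by
        rw [show q.1 = j + (q.1 - j) by omega, pow_add, hAj, zero_mul]
      rw [h1, zero_mul]
      exact smul_zero _
    · have h1 : (B ^ q.2) (Additive.ofMul (cH ⟨a, ha⟩)) = 0 := by
        rw [show q.2 = (q.2 - i) + i by omega, pow_add]
        show (B ^ (q.2 - i)) ((B ^ i) _) = 0
        rw [show (B ^ i) (Additive.ofMul (cH ⟨a, ha⟩)) = 0 from Additive.toMul.injective (hBi _),
          map_zero]
      show k.choose q.1 • (A ^ q.1) ((B ^ q.2) _) = 0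
      rw [h1, map_zero]; exact nsmul_zero _
  obtain ⟨b', h1, h2⟩ := hABpow k ⟨a, ha⟩
  rw [hzero] at h2
  intro x hx
  rw [← h1]
  refine (QuotientGroup.eq_one_iff _).mp ?_
  exact congrArg Subtype.val (DFunLike.congr_fun (congrArg Additive.toMul h2.symm) ⟨x, hx⟩)

variable [Finite G] {p : ℕ} [Fact p.Prime]

/-- A normal `p`-subgroup centralizes the `p`-chief factors. -/
theorem commutator_le_of_isChiefFactor {U V P : Subgroup G} [P.Normal]
    (hUV : Cfsg.IsChiefFactor U V) (hU : IsPGroup p ↥U) (hP : IsPGroup p ↥P) : ⁅U, P⁆ ≤ V := by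
  haveI := hUV.2.1
  haveI := hUV.2.2.1
  set π := QuotientGroup.mk' V with hπ
  haveI : (U.map π).Normal := Subgroup.Normal.map inferInstance _ (QuotientGroup.mk'_surjective V)
  have hne : U.map π ≠ ⊥ := by
    rw [Ne, Subgroup.map_eq_bot_iff, hπ, QuotientGroup.ker_mk']
    exact hUV.1.not_ge
  have hlt := Coprime.commutator_lt_of_isPGroup (hP.map π) (hU.map π)
    (le_top.trans (Subgroup.normalizer_eq_top (H := U.map π)).ge) hne
  rcases hUV.2.2.2 (⁅U, P⁆ ⊔ V) inferInstance le_sup_right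
    (sup_le (Subgroup.commutator_le_left U P) hUV.1.le) with h | h
  · exact le_sup_left.trans h.le
  · refine absurd ?_ hlt.ne
    rw [← Subgroup.map_commutator]
    conv_rhs => rw [← h, Subgroup.map_sup, hπ, QuotientGroup.map_mk'_self, sup_bot_eq]

/-- A chief factor covered by `U ⊓ Q` gives a chief factor below `Q`. -/
theorem isChiefFactor_inf {U V Q : Subgroup G} [Q.Normal] (hUV : Cfsg.IsChiefFactor U V)
    (h : U ≤ (U ⊓ Q) ⊔ V) : Cfsg.IsChiefFactor (U ⊓ Q) (V ⊓ Q) := by
  obtain ⟨hlt, hUn, hVn, hmin⟩ := hUV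
  refine ⟨lt_of_le_of_ne (inf_le_inf_right Q hlt.le) fun he => hlt.not_ge ?_, inferInstance,
    inferInstance, fun N hN h1 h2 => ?_⟩
  · exact h.trans (sup_le (he.ge.trans inf_le_left) le_rfl)
  · rcases hmin (N ⊔ V) inferInstance le_sup_right (sup_le (h2.trans inf_le_left) hlt.le) with e | e
    · exact Or.inl (le_antisymm (le_inf (le_sup_left.trans e.le) (h2.trans inf_le_right)) h1)
    · refine Or.inr (le_antisymm h2 fun x hx => ?_)
      obtain ⟨n, hn, v, hv, rfl⟩ := Subgroup.mem_sup_of_normal_right.mp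
        (e.ge (Subgroup.mem_inf.mp hx).1)
      refine mul_mem hn (h1 (Subgroup.mem_inf.mpr ⟨hv, ?_⟩))
      have := mul_mem (inv_mem (Subgroup.mem_inf.mp (h2 hn)).2) (Subgroup.mem_inf.mp hx).2
      rwa [inv_mul_cancel_left] at this

/-- Degrees `i` below `Q` and `j` below `Z(Q)` give degree `i + j - 1` below `P`. -/
theorem iterCommutator_le_of_critical {P Q : Subgroup G} [P.Normal] [Q.Normal] (hP : IsPGroup p ↥P)
    (hQP : Q ≤ P) (hQ3 : ⁅P, Q⁆ ≤ Q ⊓ Subgroup.centralizer (Q : Set G))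
    (hQ4 : P ⊓ Subgroup.centralizer (Q : Set G) ≤ Q) (g : G) (i j : ℕ) (hi : 1 ≤ i) (hj : 1 ≤ j)
    (hQi : ∀ U V : Subgroup G, Cfsg.IsChiefFactor U V → U ≤ Q →
      Cfsg.iterCommutator U (Subgroup.zpowers g) i ≤ V)
    (hZj : ∀ U V : Subgroup G, Cfsg.IsChiefFactor U V → U ≤ Q ⊓ Subgroup.centralizer (Q : Set G) →
      Cfsg.iterCommutator U (Subgroup.zpowers g) j ≤ V)
    (U V : Subgroup G) (hUV : Cfsg.IsChiefFactor U V) (hUP : U ≤ P) :
    Cfsg.iterCommutator U (Subgroup.zpowers g) (i + j - 1) ≤ V := by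
  classical
  haveI := hUV.2.1
  haveI := hUV.2.2.1
  set k := i + j - 1 with hk
  rcases hUV.2.2.2 ((U ⊓ Q) ⊔ V) inferInstance le_sup_right (sup_le inf_le_left hUV.1.le) with h | h
  swap
  · have h1 := iterCommutator_le_of_le (U := U ⊓ Q) (show i ≤ k by omega)
      (hQi _ _ (isChiefFactor_inf hUV h.ge) inf_le_right)
    refine (iterCommutator_mono h.ge k).trans ((iterCommutator_sup_le k).trans (sup_le ?_ le_rfl))
    exact h1.trans inf_le_left
  have hUQ : U ⊓ Q ≤ V := le_sup_left.trans h.le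
  set Z := Q ⊓ Subgroup.centralizer (Q : Set G) with hZ
  have hpU : IsPGroup p ↥U := hP.to_le hUP
  -- the pairing factor `Y / Y'`
  let SY : Set (Subgroup G) := {Y | ∃ hY : Y.Normal, Y ≤ Z ∧ U ≤ (U ⊓ kerOn Q Y hY) ⊔ V}
  have hZmem : Z ∈ SY := by
    refine ⟨inferInstance, le_rfl, le_trans (le_inf le_rfl ?_) le_sup_left⟩
    rw [le_kerOn_iff, Subgroup.commutator_comm]
    exact (Subgroup.commutator_mono hUP le_rfl).trans hQ3
  obtain ⟨Y, hYmin⟩ := (Set.toFinite SY).exists_minimal ⟨Z, hZmem⟩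
  obtain ⟨hYn, hYZ, hYcov⟩ := hYmin.prop
  have hYne : Y ≠ ⊥ := by
    rintro rfl
    refine hUV.1.not_ge (hYcov.trans (sup_le (fun a ha => ?_) le_rfl))
    refine hUQ (Subgroup.mem_inf.mpr ⟨ha.1, hQ4 ⟨hUP ha.1, fun q hq => ?_⟩⟩)
    exact commutatorElement_eq_one_iff_mul_comm.mp (Subgroup.mem_bot.mp (ha.2 q hq))
  obtain ⟨Y', hY⟩ := exists_chief_top (U := Y) hYne
  have hY'n : Y'.Normal := hY.2.2.1
  set U₁ := U ⊓ kerOn Q Y hYn with hU₁
  haveI : (kerOn Q Y hYn).Normal := kerOn_normal inferInstance hYn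
  haveI : (kerOn Q Y' hY'n).Normal := kerOn_normal inferInstance hY'n
  -- the pairing factor `X / X'`
  let SX : Set (Subgroup G) := {X | ∃ hX : X.Normal, X ≤ Q ∧ U₁ ⊓ kerOn X Y' hY'n ≤ V}
  have hQmem : Q ∈ SX := by
    refine ⟨inferInstance, le_rfl, ?_⟩
    haveI : (U₁ ⊓ kerOn Q Y' hY'n).Normal := inferInstance
    rcases hUV.2.2.2 ((U ⊓ kerOn Q Y' hY'n) ⊔ V) inferInstance le_sup_right
      (sup_le inf_le_left hUV.1.le) with h1 | h1
    · exact (inf_le_inf_right _ inf_le_left).trans (le_sup_left.trans h1.le)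
    · exfalso
      exact hY.1.ne (le_antisymm hY.1.le (hYmin.le_of_le ⟨hY'n, hY.1.le.trans hYZ, h1.ge⟩ hY.1.le))
  obtain ⟨X, hXmin⟩ := (Set.toFinite SX).exists_minimal ⟨Q, hQmem⟩
  obtain ⟨hXn, hXQ, hXV⟩ := hXmin.prop
  have hXne : X ≠ ⊥ := by
    rintro rfl
    refine hUV.1.not_ge (hYcov.trans (sup_le (le_trans (le_inf le_rfl ?_) hXV) le_rfl))
    intro a _ x hx
    rw [Subgroup.mem_bot] at hx
    simp [hx]
  obtain ⟨X', hX⟩ := exists_chief_top (U := X) hXne
  have hX'n : X'.Normal := hX.2.2.1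
  haveI : (kerOn X' Y' hY'n).Normal := kerOn_normal hX'n hY'n
  set U₂ := U₁ ⊓ kerOn X' Y' hY'n with hU₂
  have hcov : U ≤ U₂ ⊔ V := by
    rcases hUV.2.2.2 (U₂ ⊔ V) inferInstance le_sup_right
      (sup_le (inf_le_left.trans inf_le_left) hUV.1.le) with h1 | h1
    · exfalso
      exact hX.1.ne (le_antisymm hX.1.le
        (hXmin.le_of_le ⟨hX'n, hX.1.le.trans hXQ, le_sup_left.trans h1.le⟩ hX.1.le))
    · exact h1.ge
  have hYp : IsPGroup p ↥Y := hP.to_le (hYZ.trans (inf_le_left.trans hQP))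
  have hU₂U : U₂ ≤ U := inf_le_left.trans inf_le_left
  have hYP : ⁅Y, P⁆ ≤ Y' := commutator_le_of_isChiefFactor hY hYp hP
  have hiter : ∀ a ∈ U₂, (fun y => ⁅y, g⁆)^[k] a ∈ V := by
    intro a ha
    have h1 := iterate_mem_kerOn (X := X) (X' := X') (Y := Y) (Y' := Y') (U := U₂)
      ((Subgroup.commutator_mono le_rfl (hYZ.trans (inf_le_left.trans hQP))).trans hYP)
      ((Subgroup.commutator_mono le_rfl (hU₂U.trans hUP)).trans hYP)
      ((Subgroup.commutator_mono le_rfl (hXQ.trans hQP)).trans hYP)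
      (fun b hb x hx => (Subgroup.mem_inf.mp (Subgroup.mem_inf.mp hb).1).2 x (hXQ hx))
      (fun b hb x hx => (Subgroup.mem_inf.mp hb).2 x hx) g (i := i) (j := j) (k := k) (by omega)
      (hQi X X' hX hXQ) (hZj Y Y' hY hYZ) ha
    refine hXV (Subgroup.mem_inf.mpr ⟨?_, h1⟩)
    exact (inf_le_left : U₂ ≤ U₁) (((Nat.recOn k (fun b hb => hb) fun m ih b hb => by
      rw [Function.iterate_succ_apply']
      exact Subgroup.commutator_le_left U₂ _
        (Subgroup.commutator_mem_commutator (ih b hb) (Subgroup.mem_zpowers g)))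
      : ∀ b, b ∈ U₂ → (fun y => ⁅y, g⁆)^[k] b ∈ U₂) a ha)
  refine (iterCommutator_mono hcov k).trans ((iterCommutator_sup_le k).trans (sup_le ?_ le_rfl))
  have hU₂U₂ : ⁅U₂, U₂⁆ ≤ U₂ ⊓ V := le_inf (Subgroup.commutator_le_self U₂)
    ((Subgroup.commutator_mono hU₂U (hU₂U.trans hUP)).trans
      (commutator_le_of_isChiefFactor hUV hpU hP))
  refine (iterCommutator_le_of_iterate (U := U₂) (V := U₂ ⊓ V) inf_le_left hU₂U₂ g k
    fun u hu => Subgroup.mem_inf.mpr ⟨?_, hiter u hu⟩).trans inf_le_right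
  clear hiter
  induction k generalizing u with
  | zero => exact hu
  | succ m ih =>
    rw [Function.iterate_succ_apply]
    exact ih _ (Subgroup.commutator_le_left U₂ _
      (Subgroup.commutator_mem_commutator hu (Subgroup.mem_zpowers g)))

end Cfsg.Agent.ConjFun
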