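import Cfsg.Agent.Lib.ConjFun.Transfer
import Cfsg.Agent.Lib.PGroup.Frattini
import Cfsg.Prelude.Def_PLocal

/-!
# Transfer and Engel elements

* `prod_conj_eq_one`: the norm of an automorphism with `(σ - 1)^(p-1) = 0` kills
* `prod_eq_one_of_moved`: orbit sums under a `p`-group generated by such elements vanish
* `failure_structure`, `pCore_inf_commutator_le_of_engel`: minimal failures of transfer control
* `controls_of_engel`
-/

set_option autoImplicit false

namespace Cfsg.Agent.ConjFun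

open scoped commutatorElement

universe u v w

section Norm

theorem C_dvd_geom_sum_sub (p : ℕ) [Fact p.Prime] :
    Polynomial.C (p : ℤ) ∣ (∑ j ∈ Finset.range p, (Polynomial.X : Polynomial ℤ) ^ j) -
      (Polynomial.X - 1) ^ (p - 1) := by
  rw [Polynomial.C_dvd_iff_dvd_coeff]
  intro i
  rw [← ZMod.intCast_zmod_eq_zero_iff_dvd]
  have key : (∑ j ∈ Finset.range p, (Polynomial.X : Polynomial (ZMod p)) ^ j) -
      (Polynomial.X - 1) ^ (p - 1) = 0 := by
    rw [sub_eq_zero]
    refine mul_right_cancel₀ (b := (Polynomial.X : Polynomial (ZMod p)) - 1) ?_ ?_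
    · simpa using Polynomial.X_sub_C_ne_zero (1 : ZMod p)
    · rw [geom_sum_mul, ← pow_succ, Nat.sub_add_cancel (Fact.out (p := p.Prime)).one_le,
        sub_pow_char, one_pow]
  have h := congrArg (fun f : Polynomial (ZMod p) => f.coeff i) key
  simp only [Polynomial.coeff_zero] at h
  rw [← h, show (∀ n : ℤ, (n : ZMod p) = Int.castRingHom (ZMod p) n) from fun n => rfl,
    ← Polynomial.coeff_map]
  simp [Polynomial.map_sub, Polynomial.map_sum, Polynomial.map_pow]

theorem geom_sum_eq_pow_sub_one {R : Type u} [Ring R] {p : ℕ} [Fact p.Prime]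
    (hp : (p : R) = 0) (T : R) : ∑ j ∈ Finset.range p, T ^ j = (T - 1) ^ (p - 1) := by
  obtain ⟨g, hg⟩ := C_dvd_geom_sum_sub p
  have h := congrArg (Polynomial.aeval T) hg
  simp only [map_sub, map_sum, map_pow, map_mul, map_one, Polynomial.aeval_X,
    map_natCast, hp, zero_mul, sub_eq_zero] at h
  exact h

/-- The norm of an endomorphism acting unipotently of degree less than `p`. -/
theorem prod_iterate_eq_one {U : Type u} [Group U] {A : Type v} [CommGroup A] {p : ℕ}
    [Fact p.Prime] (σ : U →* U) (N : ℕ → Subgroup U) (h0 : N 0 = ⊤)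
    (hstep : ∀ i, ∀ z ∈ N i, z⁻¹ * σ z ∈ N (i + 1)) (f : U →* A)
    (hf : ∀ z ∈ N (p - 1), f z = 1) (hexp : ∀ z, f z ^ p = 1) (z : U) :
    ∏ j ∈ Finset.range p, f (σ^[j] z) = 1 := by
  let K : Subgroup (U →* A) :=
    { carrier := {g | ∀ z, g z ^ p = 1}
      one_mem' := fun z => one_pow p
      mul_mem' := fun {a b} ha hb z => by rw [MonoidHom.mul_apply, mul_pow, ha, hb, one_mul]
      inv_mem' := fun {a} ha z => by rw [MonoidHom.inv_apply, inv_pow, ha, inv_one] }
  let T₀ : ↥K →* ↥K :=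
    { toFun := fun g => ⟨(g : U →* A).comp σ, fun z => g.2 (σ z)⟩
      map_one' := by ext z; rfl
      map_mul' := fun g h => by ext z; rfl }
  let T : AddMonoid.End (Additive ↥K) := MonoidHom.toAdditive T₀
  let val : Additive ↥K → (U →* A) := fun g => ((Additive.toMul g : ↥K) : U →* A)
  have hTpow : ∀ (j : ℕ) (g : Additive ↥K) (z : U),
      val ((T ^ j) g) z = val g (σ^[j] z) := by
    intro j
    induction j with
    | zero => intro g z; rfl
    | succ j ih =>
      intro g z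
      rw [pow_succ, Function.iterate_succ_apply']
      exact (ih (T g) z).trans rfl
  have hδ : ∀ (k i : ℕ) (g : Additive ↥K), (∀ z ∈ N (i + k), val g z = 1) →
      ∀ z ∈ N i, val (((T - 1) ^ k) g) z = 1 := by
    intro k
    induction k with
    | zero => intro i g hg z hz; exact hg z hz
    | succ k ih =>
      intro i g hg z hz
      rw [pow_succ]
      refine ih i ((T - 1) g) (fun y hy => ?_) z hz
      have h1 : val ((T - 1) g) y = val g (σ y) / val g y := rfl
      have h2 := hg _ (hstep (i + k) y hy)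
      rw [map_mul, map_inv, inv_mul_eq_one] at h2
      rw [h1, h2, div_self']
  have hp0 : (p : AddMonoid.End (Additive ↥K)) = 0 := by
    refine AddMonoidHom.ext fun g => ?_
    show (p : AddMonoid.End (Additive ↥K)) g = 0
    rw [AddMonoid.End.natCast_apply]
    apply Additive.toMul.injective
    apply Subtype.ext
    ext z
    exact (Additive.toMul g).2 z
  let f₀ : Additive ↥K := Additive.ofMul ⟨f, hexp⟩
  have hsum := congrArg (fun e : AddMonoid.End (Additive ↥K) => val (e f₀) z)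
    (geom_sum_eq_pow_sub_one hp0 T)
  have hright := hδ (p - 1) 0 f₀ (fun y hy => hf y (by simpa using hy)) z (h0 ▸ Subgroup.mem_top z)
  have hleft : val ((∑ j ∈ Finset.range p, T ^ j) f₀) z =
      ∏ j ∈ Finset.range p, val ((T ^ j) f₀) z := by
    generalize Finset.range p = r
    induction r using Finset.induction_on with
    | empty => rfl
    | insert a r ha ih =>
      rw [Finset.sum_insert ha, Finset.prod_insert ha, ← ih]
      rfl
  calc ∏ j ∈ Finset.range p, f (σ^[j] z)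
      = ∏ j ∈ Finset.range p, val ((T ^ j) f₀) z :=
        Finset.prod_congr rfl fun j _ => (hTpow j f₀ z).symm
    _ = 1 := hleft.symm.trans (hsum.trans hright)

end Norm

section Orbits

variable {p : ℕ} [Fact p.Prime]

theorem exists_coatom_not_subset {L : Type u} [Group L] [Finite L] {H : Subgroup L} (hH : H ≠ ⊤) :
    ∃ M : Subgroup L, IsCoatom M ∧ H ≤ M :=
  (IsCoatomic.eq_top_or_exists_le_coatom H).resolve_left hH

/-- Orbit products vanish under a `p`-group generated by elements with vanishing norm. -/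
theorem prod_eq_one_of_moved_aux {X : Type v} [DecidableEq X] {A : Type w} [CommGroup A]
    {U : Type*} [Group U] (n : ℕ) :
    ∀ (L : Type u) [Group L] [Finite L] [MulAction L X], Nat.card L = n → IsPGroup p L →
      ∀ (ρ : L →* MulAut U) (E : Set L) (F : X → U →* A),
        (∀ l x z, F (l • x) (ρ l z) = F x z) →
        (∀ e ∈ E, ∀ x z, ∏ j ∈ Finset.range p, F x (ρ (e ^ j) z) = 1) →
        ∀ Y : Finset X, (∀ (l : L), ∀ x ∈ Y, l • x ∈ Y) → (∀ x ∈ Y, ∃ e ∈ E, e • x ≠ x) →
          ∀ z, ∏ y ∈ Y, F y z = 1 := by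
  induction n using Nat.strong_induction_on with
  | _ n IH =>
  intro L _ _ _ hn hL ρ E F hF hkill
  classical
  haveI : Fintype L := Fintype.ofFinite L
  have hres : ∀ M : Subgroup L, M ≠ ⊤ → ∀ Y : Finset X, (∀ l ∈ M, ∀ x ∈ Y, l • x ∈ Y) →
      (∀ x ∈ Y, ∃ e ∈ E, e ∈ M ∧ e • x ≠ x) → ∀ z, ∏ y ∈ Y, F y z = 1 := by
    intro M hM Y hY hmove
    exact IH _ (hn ▸ card_lt_of_ne_top hM) ↥M rfl (hL.to_subgroup M) (ρ.comp M.subtype)
      {e | (e : L) ∈ E} F (fun l x z => hF l x z) (fun e he x z => hkill e he x z) Y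
      (fun l x hx => hY l l.2 x hx)
      (fun x hx => by
        obtain ⟨e, he, heM, hne⟩ := hmove x hx
        exact ⟨⟨e, heM⟩, he, hne⟩)
  intro Y
  induction Y using Finset.strongInductionOn with
  | _ Y IHY =>
  intro hY hmove z
  rcases Y.eq_empty_or_nonempty with rfl | ⟨x, hx⟩
  · rfl
  obtain ⟨e₀, he₀, hne₀⟩ := hmove x hx
  have hstab : MulAction.stabilizer L x ≠ ⊤ := fun h =>
    hne₀ (MulAction.mem_stabilizer_iff.mp (h ▸ Subgroup.mem_top e₀))
  obtain ⟨M, hM, hxM⟩ := exists_coatom_not_subset hstab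
  by_cases hEM : ∀ e ∈ E, e ∈ M
  · exact hres M hM.1 Y (fun l _ => hY l) (fun y hy => by
      obtain ⟨e, he, hne⟩ := hmove y hy
      exact ⟨e, he, hEM e he, hne⟩) z
  simp only [not_forall] at hEM
  obtain ⟨e, he, heM⟩ := hEM
  haveI hMn : M.Normal := PGroup.normal_of_isCoatom hL hM
  have hMi : M.index = p := PGroup.index_of_isCoatom hL hM
  let O : Finset X := Finset.univ.image fun l : L => l • x
  let O₀ : Finset X := (Finset.univ.filter fun l : L => l ∈ M).image fun l => l • x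
  have hOY : O ⊆ Y := by
    intro y hy
    obtain ⟨l, -, rfl⟩ := Finset.mem_image.mp hy
    exact hY l x hx
  have hord : orderOf (QuotientGroup.mk' M e) = p := by
    have h1 : orderOf (QuotientGroup.mk' M e) ∣ p := by
      rw [← hMi, Subgroup.index]
      exact orderOf_dvd_natCard _
    refine ((Nat.dvd_prime (Fact.out (p := p.Prime))).mp h1).resolve_left fun h => heM ?_
    exact (QuotientGroup.eq_one_iff e).mp (orderOf_eq_one_iff.mp h)
  have hOprod : ∏ y ∈ O, F y z = 1 := by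
    have hbij : ∏ q ∈ Finset.range p ×ˢ O₀, F (e ^ q.1 • q.2) z = ∏ y ∈ O, F y z := by
      refine Finset.prod_bij (fun q _ => e ^ q.1 • q.2) ?_ ?_ ?_ (fun _ _ => rfl)
      · intro q hq
        obtain ⟨l, -, hl⟩ := Finset.mem_image.mp (Finset.mem_product.mp hq).2
        exact Finset.mem_image.mpr ⟨e ^ q.1 * l, Finset.mem_univ _, by rw [mul_smul, hl]⟩
      · rintro ⟨i, a⟩ hia ⟨j, b⟩ hjb heq
        obtain ⟨hi, ha⟩ := Finset.mem_product.mp hia
        obtain ⟨hj, hb⟩ := Finset.mem_product.mp hjb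
        obtain ⟨m, hm, rfl⟩ := Finset.mem_image.mp ha
        obtain ⟨m', hm', rfl⟩ := Finset.mem_image.mp hb
        have hmM : m ∈ M := (Finset.mem_filter.mp hm).2
        have hm'M : m' ∈ M := (Finset.mem_filter.mp hm').2
        simp only at heq
        have hs : (e ^ j * m')⁻¹ * (e ^ i * m) ∈ M := by
          refine hxM (MulAction.mem_stabilizer_iff.mpr ?_)
          rw [mul_smul, mul_smul, heq, ← mul_smul (e ^ j) m', inv_smul_smul]
        have hij : QuotientGroup.mk' M e ^ i = QuotientGroup.mk' M e ^ j := by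
          have h1 : QuotientGroup.mk' M ((e ^ j * m')⁻¹ * (e ^ i * m)) = 1 :=
            (QuotientGroup.eq_one_iff _).mpr hs
          have e1 : QuotientGroup.mk' M m = 1 := (QuotientGroup.eq_one_iff _).mpr hmM
          have e2 : QuotientGroup.mk' M m' = 1 := (QuotientGroup.eq_one_iff _).mpr hm'M
          rw [map_mul, map_inv, map_mul, map_mul, e1, e2, mul_one, mul_one, map_pow, map_pow,
            inv_mul_eq_one] at h1
          exact h1.symm
        have hji : i = j := pow_injOn_Iio_orderOf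
          (by rw [Set.mem_Iio, hord]; exact Finset.mem_range.mp hi)
          (by rw [Set.mem_Iio, hord]; exact Finset.mem_range.mp hj) hij
        subst hji
        simp only [smul_left_cancel_iff] at heq
        rw [heq]
      · intro y hy
        obtain ⟨l, -, rfl⟩ := Finset.mem_image.mp hy
        have hgen : QuotientGroup.mk' M l ∈ Subgroup.zpowers (QuotientGroup.mk' M e) := by
          have htop : Subgroup.zpowers (QuotientGroup.mk' M e) = ⊤ := Subgroup.eq_top_of_card_eq _ (by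
            rw [Nat.card_zpowers, hord, ← hMi]; rfl)
          rw [htop]
          trivial
        rw [← mem_powers_iff_mem_zpowers, Submonoid.mem_powers_iff] at hgen
        obtain ⟨k, hk⟩ := hgen
        rw [← pow_mod_orderOf, hord] at hk
        refine ⟨⟨k % p, (e ^ (k % p))⁻¹ • l • x⟩, Finset.mem_product.mpr
          ⟨Finset.mem_range.mpr (Nat.mod_lt _ (Fact.out (p := p.Prime)).pos),
            Finset.mem_image.mpr ⟨(e ^ (k % p))⁻¹ * l, Finset.mem_filter.mpr
              ⟨Finset.mem_univ _, ?_⟩, mul_smul _ _ _⟩⟩, smul_inv_smul _ _⟩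
        rw [← QuotientGroup.eq_one_iff]
        show QuotientGroup.mk' M ((e ^ (k % p))⁻¹ * l) = 1
        rw [map_mul, map_inv, map_pow, hk, inv_mul_cancel]
    rw [← hbij, Finset.prod_product_right]
    refine Finset.prod_eq_one fun y _ => ?_
    have key : ∀ j, F (e ^ j • y) z = F y (ρ (e ^ j)⁻¹ z) := by
      intro j
      conv_lhs => rw [show z = ρ (e ^ j) (ρ (e ^ j)⁻¹ z) from by
        rw [map_inv]; exact ((ρ (e ^ j)).apply_symm_apply z).symm]
      exact hF _ _ _
    simp only [key]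
    refine Eq.trans ?_ (hkill e he y (ρ (e ^ (p - 1))⁻¹ z))
    rw [← Finset.prod_range_reflect (fun j => F y (ρ (e ^ j)⁻¹ z))]
    refine Finset.prod_congr rfl fun j hj => ?_
    rw [Finset.mem_range] at hj
    have hsplit : (e ^ (p - 1 - j))⁻¹ = e ^ j * (e ^ (p - 1))⁻¹ := by
      rw [show e ^ (p - 1) = e ^ (p - 1 - j) * e ^ j from by rw [← pow_add]; congr 1; omega]
      group
    rw [hsplit, map_mul, MulAut.mul_apply]
  rw [← Finset.sdiff_union_of_subset hOY, Finset.prod_union Finset.sdiff_disjoint, hOprod, mul_one]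
  refine IHY (Y \ O) (Finset.sdiff_ssubset hOY ⟨x, Finset.mem_image.mpr
    ⟨1, Finset.mem_univ _, one_smul _ _⟩⟩) (fun l y hy => ?_) (fun y hy => hmove y (Finset.mem_sdiff.mp hy).1) z
  obtain ⟨hyY, hyO⟩ := Finset.mem_sdiff.mp hy
  refine Finset.mem_sdiff.mpr ⟨hY l y hyY, fun hc => hyO ?_⟩
  obtain ⟨k, -, hk⟩ := Finset.mem_image.mp hc
  exact Finset.mem_image.mpr ⟨l⁻¹ * k, Finset.mem_univ _, by rw [mul_smul, hk, inv_smul_smul]⟩

theorem prod_eq_one_of_moved {X : Type v} [DecidableEq X] {A : Type w} [CommGroup A]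
    {U : Type*} [Group U] {L : Type u} [Group L] [Finite L] [MulAction L X] (hL : IsPGroup p L)
    (ρ : L →* MulAut U) (E : Set L) (F : X → U →* A)
    (hF : ∀ l x z, F (l • x) (ρ l z) = F x z)
    (hkill : ∀ e ∈ E, ∀ x z, ∏ j ∈ Finset.range p, F x (ρ (e ^ j) z) = 1)
    (Y : Finset X) (hY : ∀ (l : L), ∀ x ∈ Y, l • x ∈ Y) (hmove : ∀ x ∈ Y, ∃ e ∈ E, e • x ≠ x)
    (z : U) : ∏ y ∈ Y, F y z = 1 :=
  prod_eq_one_of_moved_aux _ L rfl hL ρ E F hF hkill Y hY hmove z

end Orbits

section Main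

variable {p : ℕ}

/-- `u` acts on every chief factor below `Q` as an Engel element of degree less than `p`. -/
def IsEngel {G : Type u} [Group G] (p : ℕ) (Q : Subgroup G) (u : G) : Prop :=
  ∀ U V : Subgroup G, Cfsg.IsChiefFactor U V → U ≤ Q →
    Cfsg.iterCommutator U (Subgroup.zpowers u) (p - 1) ≤ V

theorem map_iterCommutator {G : Type u} [Group G] {H : Type v} [Group H] (f : G →* H)
    (N K : Subgroup G) (i : ℕ) :
    (Cfsg.iterCommutator N K i).map f = Cfsg.iterCommutator (N.map f) (K.map f) i := by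
  induction i with
  | zero => rfl
  | succ i ih => rw [Cfsg.iterCommutator, Subgroup.map_commutator, ih]; rfl

theorem isEngel_conj {G : Type u} [Group G] {Q : Subgroup G} {u : G} (h : IsEngel p Q u) (g : G) :
    IsEngel p Q (g * u * g⁻¹) := by
  intro U V hUV hU
  have hn : ∀ N : Subgroup G, N.Normal → N.map (MulAut.conj g).toMonoidHom = N := fun N hN =>
    conjMap_eq_self ((Subgroup.normalizer_eq_top_iff.mpr hN).ge (Subgroup.mem_top g))
  have h1 := Subgroup.map_mono (f := (MulAut.conj g).toMonoidHom) (h U V hUV hU)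
  rw [map_iterCommutator, hn U hUV.2.1, hn V hUV.2.2.1, MonoidHom.map_zpowers] at h1
  simpa [MulAut.conj_apply] using h1

/-- Every minimal normal counterexample gives a chief factor. -/
theorem exists_chief_below {G : Type u} [Group G] [Finite G] (Q D : Subgroup G) [Q.Normal]
    (h : ¬ Q ≤ D) : ∃ U V : Subgroup G, Cfsg.IsChiefFactor U V ∧ U ≤ Q ∧ V ≤ D ∧ ¬ U ≤ D := by
  let S₁ : Set (Subgroup G) := {U | U.Normal ∧ U ≤ Q ∧ ¬ U ≤ D}
  obtain ⟨U, hU⟩ := (Set.toFinite S₁).exists_minimal ⟨Q, inferInstance, le_rfl, h⟩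
  obtain ⟨hUn, hUQ, hUD⟩ := hU.prop
  have hne : U ≠ ⊥ := fun he => hUD (he ▸ bot_le)
  let S₂ : Set (Subgroup G) := {V | V.Normal ∧ V < U}
  obtain ⟨V, hV⟩ := (Set.toFinite S₂).exists_maximal ⟨⊥, inferInstance, bot_lt_iff_ne_bot.mpr hne⟩
  obtain ⟨hVn, hVU⟩ := hV.prop
  refine ⟨U, V, ⟨hVU, hUn, hVn, fun N hN hVN hNU => ?_⟩, hUQ, ?_, hUD⟩
  · rcases eq_or_lt_of_le hNU with h1 | h1
    · exact Or.inr h1
    · exact Or.inl (le_antisymm (hV.le_of_ge ⟨hN, h1⟩ hVN) hVN)
  · by_contra hVD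
    exact hVU.not_ge (hU.le_of_le ⟨hVn, hVU.le.trans hUQ, hVD⟩ hVU.le)

variable [Fact p.Prime]

/-- A chief factor that is a `p`-group has exponent `p`. -/
theorem pow_mem_of_isChiefFactor {G : Type u} [Group G] [Finite G] {U V : Subgroup G}
    (hUV : Cfsg.IsChiefFactor U V) (hU : IsPGroup p ↥U) {z : G} (hz : z ∈ U) : z ^ p ∈ V := by
  obtain ⟨hlt, hUn, hVn, hmin⟩ := hUV
  haveI := hUn
  haveI := hVn
  set Φ := (frattini ↥U).map U.subtype with hΦ
  have hle : V ⊔ Φ ≤ U := sup_le hlt.le (Subgroup.map_subtype_le _)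
  rcases hmin (V ⊔ Φ) inferInstance le_sup_left hle with h1 | h1
  · have hzΦ : z ^ p ∈ Φ := ⟨(⟨z, hz⟩ : ↥U) ^ p, PGroup.pow_mem_frattini hU _, rfl⟩
    exact h1 ▸ Subgroup.mem_sup_right hzΦ
  · exfalso
    refine hlt.ne (le_antisymm hlt.le ?_)
    rw [← Subgroup.subgroupOf_eq_top]
    refine frattini_nongenerating ?_
    apply Subgroup.map_injective U.subtype_injective
    rw [Subgroup.map_sup, Subgroup.map_subgroupOf_eq_of_le hlt.le, ← hΦ, h1,
      ← MonoidHom.range_eq_map, Subgroup.range_subtype]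

variable {𝓦 : Set (∀ (Q : Type u) [Group Q], Subgroup Q)}
  (h𝓦 : ∀ W ∈ 𝓦, Cfsg.IsCharPFunctor.{u} p W) (hne : 𝓦.Nonempty)
  {G : Type u} [Group G] [Finite G]
  (IH : ∀ (X : Type u) [Group X], Cfsg.Involves X G → Nat.card X < Nat.card G → Controls p 𝓦 X)
  (S : Sylow p G)
  (hfail : ¬ Cfsg.pCore p G ⊓ commutator G ≤ transferGen (inducedFamily 𝓦 G) (S : Subgroup G))
include h𝓦 hne IH hfail

/-- The structure of a minimal failure. -/
theorem failure_structure :
    Subgroup.normalizer ((transferGen (inducedFamily 𝓦 G) (S : Subgroup G) ⊓ Cfsg.pCore p G :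
        Subgroup G) : Set G) ≠ ⊤ ∧
      (∀ H : Subgroup G, (S : Subgroup G) ≤ H → H ≠ ⊤ → H ≤ Subgroup.normalizer
        ((transferGen (inducedFamily 𝓦 G) (S : Subgroup G) ⊓ Cfsg.pCore p G : Subgroup G) : Set G)) ∧
      ⁅Cfsg.pCore p G, Subgroup.normalizer ((transferGen (inducedFamily 𝓦 G) (S : Subgroup G) ⊓
          Cfsg.pCore p G : Subgroup G) : Set G)⁆ ≤ Cfsg.pCore p G ⊓
        ⁅Subgroup.normalizer ((transferGen (inducedFamily 𝓦 G) (S : Subgroup G) ⊓
            Cfsg.pCore p G : Subgroup G) : Set G),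
          Subgroup.normalizer ((transferGen (inducedFamily 𝓦 G) (S : Subgroup G) ⊓
            Cfsg.pCore p G : Subgroup G) : Set G)⁆ ∧
      Cfsg.pCore p G ⊓ ⁅Subgroup.normalizer ((transferGen (inducedFamily 𝓦 G) (S : Subgroup G) ⊓
            Cfsg.pCore p G : Subgroup G) : Set G),
          Subgroup.normalizer ((transferGen (inducedFamily 𝓦 G) (S : Subgroup G) ⊓
            Cfsg.pCore p G : Subgroup G) : Set G)⁆ ≤
        Cfsg.pCore p G ⊓ transferGen (inducedFamily 𝓦 G) (S : Subgroup G) ∧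
      Subgroup.normalizer ((S : Subgroup G) : Set G) ≤ Subgroup.normalizer
        ((transferGen (inducedFamily 𝓦 G) (S : Subgroup G) ⊓ Cfsg.pCore p G : Subgroup G) : Set G) ∧
      ⁅(S : Subgroup G), (S : Subgroup G)⁆ ≤ transferGen (inducedFamily 𝓦 G) (S : Subgroup G) := by
  set Q := Cfsg.pCore p G with hQdef
  set D := transferGen (inducedFamily 𝓦 G) (S : Subgroup G) with hD
  set M := Subgroup.normalizer ((D ⊓ Q : Subgroup G) : Set G) with hM
  have hQS : Q ≤ (S : Subgroup G) := PCore.pCore_le_sylow S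
  obtain ⟨W, hW⟩ := hne
  have hterm : (S : Subgroup G) ⊓ ⁅Subgroup.normalizer
      ((Cfsg.inducedFunctor (G := G) W S : Subgroup G) : Set G), Subgroup.normalizer
      ((Cfsg.inducedFunctor (G := G) W S : Subgroup G) : Set G)⁆ ≤ D := by
    rw [hD, transferGen_inducedFamily]
    exact le_iSup₂ (f := fun W (_ : W ∈ 𝓦) => (S : Subgroup G) ⊓
      ⁅Subgroup.normalizer ((Cfsg.inducedFunctor (G := G) W S : Subgroup G) : Set G),
        Subgroup.normalizer ((Cfsg.inducedFunctor (G := G) W S : Subgroup G) : Set G)⁆) W hW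
  have hWc := isConjugacyFunctor_inducedFunctor (G := G) (h𝓦 W hW)
  have hSD : ⁅(S : Subgroup G), (S : Subgroup G)⁆ ≤ D :=
    (le_inf (Subgroup.commutator_le_self _) (Subgroup.commutator_mono
      (le_normalizer_functor hWc S.2) (le_normalizer_functor hWc S.2))).trans hterm
  have hDS : D ≤ (S : Subgroup G) := (transferGen_le _ _).trans inf_le_left
  have hNS : Subgroup.normalizer ((S : Subgroup G) : Set G) ≠ ⊤ := fun htop => hfail <| by
    have h1 : Subgroup.normalizer ((Cfsg.inducedFunctor (G := G) W S : Subgroup G) : Set G) = ⊤ :=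
      top_le_iff.mp (htop.ge.trans (normalizer_le_normalizer_functor hWc S.2))
    rw [h1, ← commutator_def] at hterm
    exact (inf_le_inf_right _ hQS).trans hterm
  have hH : ∀ H : Subgroup G, (S : Subgroup G) ≤ H → H ≠ ⊤ →
      Q ⊓ ⁅H, H⁆ ≤ D ∧ ⁅Q, H⁆ ≤ Q ⊓ ⁅H, H⁆ ∧ H ≤ M := by
    intro H hSH hHtop
    have h1 : (S : Subgroup G) ⊓ ⁅H, H⁆ ≤ D :=
      inf_commutator_le_of_controls h𝓦 (IH ↥H (involves_subgroup H) (card_lt_of_ne_top hHtop)) S.2
        hSH (fun h => S.not_dvd_index (h.trans (Subgroup.relIndex_dvd_index_of_le hSH)))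
    have h2 : ⁅Q, H⁆ ≤ Q ⊓ ⁅H, H⁆ :=
      le_inf (Subgroup.commutator_le_left Q H) (Subgroup.commutator_mono (hQS.trans hSH) le_rfl)
    have h3 : Q ⊓ ⁅H, H⁆ ≤ D := (inf_le_inf_right _ hQS).trans h1
    refine ⟨h3, h2, fun h hh => ?_⟩
    rw [hM, Subgroup.mem_normalizer_iff_map_conj_eq]
    refine Subgroup.eq_of_le_of_card_ge (H := (D ⊓ Q).map (MulAut.conj h).toMonoidHom) ?_
      (card_conjMap _ _).ge
    rintro _ ⟨x, hx, rfl⟩
    obtain ⟨hxD, hxQ⟩ := Subgroup.mem_inf.mp hx
    have hc : ⁅x⁻¹, h⁆ ∈ ⁅Q, H⁆ := Subgroup.commutator_mem_commutator (inv_mem hxQ) hh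
    have hcD : ⁅x⁻¹, h⁆ ∈ D := h3 (h2 hc)
    have e : (MulAut.conj h).toMonoidHom x = x * ⁅x⁻¹, h⁆ := by
      simp [commutatorElement_def, mul_assoc]
    rw [e]
    exact Subgroup.mem_inf.mpr ⟨mul_mem hxD hcD,
      mul_mem hxQ (Subgroup.commutator_le_left Q H hc)⟩
  have hMtop : M ≠ ⊤ := by
    intro htop
    haveI : (D ⊓ Q).Normal := Subgroup.normalizer_eq_top_iff.mp htop
    let C : Subgroup G := (Subgroup.centralizer
      ((Q.map (QuotientGroup.mk' (D ⊓ Q)) : Subgroup _) : Set (G ⧸ D ⊓ Q))).comap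
        (QuotientGroup.mk' (D ⊓ Q))
    have hmemC : ∀ g : G, g ∈ C ↔ ∀ z ∈ Q, z⁻¹ * (g⁻¹ * z * g) ∈ D ⊓ Q := by
      intro g
      refine ⟨fun hg z hz => ?_, fun hg => ?_⟩
      · rw [← QuotientGroup.eq_one_iff]
        show QuotientGroup.mk' (D ⊓ Q) _ = 1
        have h1 := hg (QuotientGroup.mk' (D ⊓ Q) z) ⟨z, hz, rfl⟩
        rw [map_mul, map_inv, map_mul, map_mul, map_inv, mul_assoc _ (QuotientGroup.mk' (D ⊓ Q) z) _,
          h1]
        group
      · rintro _ ⟨z, hz, rfl⟩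
        have h1 : QuotientGroup.mk' (D ⊓ Q) (z⁻¹ * (g⁻¹ * z * g)) = 1 :=
          (QuotientGroup.eq_one_iff _).mpr (hg z hz)
        rw [map_mul, map_inv, map_mul, map_mul, map_inv, inv_mul_eq_one] at h1
        conv_rhs => rw [h1]
        group
    haveI : C.Normal := inferInstance
    have hHC : ∀ H : Subgroup G, (S : Subgroup G) ≤ H → H ≠ ⊤ → H ≤ C := by
      intro H hSH hHtop g hg
      refine (hmemC g).mpr fun z hz => ?_
      have hc : ⁅z⁻¹, g⁻¹⁆ ∈ ⁅Q, H⁆ :=
        Subgroup.commutator_mem_commutator (inv_mem hz) (inv_mem hg)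
      have e : z⁻¹ * (g⁻¹ * z * g) = ⁅z⁻¹, g⁻¹⁆ := by rw [commutatorElement_def]; group
      rw [e]
      exact Subgroup.mem_inf.mpr
        ⟨(hH H hSH hHtop).1 ((hH H hSH hHtop).2.1 hc), Subgroup.commutator_le_left Q H hc⟩
    have hStop : (S : Subgroup G) ≠ ⊤ := fun h => hNS (top_le_iff.mp (h.ge.trans Subgroup.le_normalizer))
    have hCtop : C = ⊤ := by
      exact (sup_eq_right.mpr (hHC _ Subgroup.le_normalizer hNS)).symm.trans
        (Sylow.normalizer_sup_eq_top' (N := C) S (hHC _ le_rfl hStop))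
    refine hfail fun z hz => ?_
    obtain ⟨hzQ, hzc⟩ := Subgroup.mem_inf.mp hz
    refine mem_of_commutator_of_forall_congr hDS hSD (hQS hzQ) hzc
      (fun x => (Subgroup.mem_inf.mp ((hmemC x).mp (hCtop ▸ Subgroup.mem_top x) z hzQ)).1) ?_
    obtain ⟨k, hk⟩ := IsPGroup.iff_orderOf.mp PCore.isPGroup_pCore (⟨z, hzQ⟩ : ↥Q)
    rw [Subgroup.orderOf_mk] at hk
    rw [hk]
    exact ((Fact.out (p := p.Prime)).coprime_iff_not_dvd.mpr S.not_dvd_index).pow_left k
  have hNSM := (hH _ Subgroup.le_normalizer hNS).2.2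
  have hSM : (S : Subgroup G) ≤ M := Subgroup.le_normalizer.trans hNSM
  exact ⟨hMtop, fun H h1 h2 => (hH H h1 h2).2.2, (hH M hSM hMtop).2.1,
    le_inf inf_le_left (hH M hSM hMtop).1, hNSM, hSD⟩

/-- In a minimal failure no element of `S` outside `O_p(G)` is Engel on a chief factor `U / V` that leaves
the transfer subgroup. -/
theorem not_engel_factor {U V : Subgroup G} (hUV : Cfsg.IsChiefFactor U V)
    (hUQ' : U ≤ Cfsg.pCore p G ⊓ commutator G)
    (hVD : V ≤ transferGen (inducedFamily 𝓦 G) (S : Subgroup G))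
    (hUD : ¬ U ≤ transferGen (inducedFamily 𝓦 G) (S : Subgroup G))
    {u : G} (huS : u ∈ (S : Subgroup G)) (huQ : u ∉ Cfsg.pCore p G) :
    ¬ Cfsg.iterCommutator U (Subgroup.zpowers u) (p - 1) ≤ V := by
  intro hu
  classical
  obtain ⟨hMtop, hmax, hQM, hMD, hNSM, hSD⟩ := failure_structure h𝓦 hne IH S hfail
  set Q := Cfsg.pCore p G with hQdef
  set D := transferGen (inducedFamily 𝓦 G) (S : Subgroup G) with hD
  set M := Subgroup.normalizer ((D ⊓ Q : Subgroup G) : Set G) with hM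
  have hQS : Q ≤ (S : Subgroup G) := PCore.pCore_le_sylow S
  have hSM : (S : Subgroup G) ≤ M := Subgroup.le_normalizer.trans hNSM
  have hconj : ∀ {e : G}, Cfsg.iterCommutator U (Subgroup.zpowers e) (p - 1) ≤ V → ∀ g : G,
      Cfsg.iterCommutator U (Subgroup.zpowers (g * e * g⁻¹)) (p - 1) ≤ V := by
    intro e he g
    have h1 := Subgroup.map_mono (f := (MulAut.conj g).toMonoidHom) he
    rw [map_iterCommutator, conjMap_eq_self ((Subgroup.normalizer_eq_top_iff.mpr hUV.2.1).ge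
      (Subgroup.mem_top g)), conjMap_eq_self ((Subgroup.normalizer_eq_top_iff.mpr hUV.2.2.1).ge
      (Subgroup.mem_top g)), MonoidHom.map_zpowers] at h1
    simpa [MulAut.conj_apply] using h1
  -- the subgroup generated by the Engel elements of `S`
  set E : Set G := {e | e ∈ (S : Subgroup G) ∧
    Cfsg.iterCommutator U (Subgroup.zpowers e) (p - 1) ≤ V} with hE
  set A := Subgroup.closure E with hA
  have hAS : A ≤ (S : Subgroup G) := (Subgroup.closure_le _).mpr fun e he => he.1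
  have hSA : (S : Subgroup G) ≤ Subgroup.normalizer (A : Set G) := by
    intro s hs
    rw [Subgroup.mem_normalizer_iff_map_conj_eq]
    refine Subgroup.eq_of_le_of_card_ge (H := A.map (MulAut.conj s).toMonoidHom) ?_ (card_conjMap _ _).ge
    rw [hA, MonoidHom.map_closure, Subgroup.closure_le]
    rintro _ ⟨e, ⟨heS, hee⟩, rfl⟩
    exact Subgroup.subset_closure ⟨mul_mem (mul_mem hs heS) (inv_mem hs), hconj hee s⟩
  have hNA : Subgroup.normalizer (A : Set G) ≤ M := by
    refine hmax _ hSA fun htop => huQ ?_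
    haveI : A.Normal := Subgroup.normalizer_eq_top_iff.mp htop
    exact PCore.le_pCore (S.2.to_le hAS) (Subgroup.subset_closure ⟨huS, hu⟩)
  have hmove : ∀ y : G, (∀ e ∈ E, y * e * y⁻¹ ∈ M) → y ∈ M := by
    intro y hy
    have hyA : A.map (MulAut.conj y).toMonoidHom ≤ M := by
      rw [hA, MonoidHom.map_closure, Subgroup.closure_le]
      rintro _ ⟨e, he, rfl⟩
      exact hy e he
    obtain ⟨m, hm, hle⟩ := exists_conj_le_of_relIndex S.2
      (fun h => S.not_dvd_index (h.trans (Subgroup.relIndex_dvd_index_of_le hSM))) hyA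
      ((S.2.to_le hAS).map _)
    rw [← conjMap_mul] at hle
    have hmy : m * y ∈ Subgroup.normalizer (A : Set G) := by
      rw [Subgroup.mem_normalizer_iff_map_conj_eq]
      refine Subgroup.eq_of_le_of_card_ge (H := A.map (MulAut.conj (m * y)).toMonoidHom) ?_
        (card_conjMap _ _).ge
      rw [hA, MonoidHom.map_closure, Subgroup.closure_le]
      rintro _ ⟨e, ⟨heS, hee⟩, rfl⟩
      exact Subgroup.subset_closure
        ⟨hle ⟨e, Subgroup.subset_closure ⟨heS, hee⟩, rfl⟩, hconj hee _⟩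
    simpa using mul_mem (inv_mem hm) (hNA hmy)
  -- the chief factor
  have hUQ : U ≤ Q := hUQ'.trans inf_le_left
  have hUn : U.Normal := hUV.2.1
  have hVQ : V ≤ Q := hUV.1.le.trans hUQ
  have hUM : U ≤ M := hUQ.trans (hQS.trans hSM)
  -- `M` modulo `(D ∩ Q) M'`
  set K : Subgroup ↥M := ((D ⊓ Q) ⊔ ⁅M, M⁆).subgroupOf M with hK
  haveI hKn : K.Normal := by
    refine ⟨fun n hn g => ?_⟩
    have h1 : ⁅(g : G), (n : G)⁆ ∈ (D ⊓ Q) ⊔ ⁅M, M⁆ :=
      Subgroup.mem_sup_right (Subgroup.commutator_mem_commutator g.2 n.2)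
    have h2 := mul_mem h1 (Subgroup.mem_subgroupOf.mp hn)
    rw [hK, Subgroup.mem_subgroupOf]
    simpa [commutatorElement_def, mul_assoc] using h2
  have hab : IsMulCommutative (↥M ⧸ K) := by
    refine ⟨⟨fun a b => ?_⟩⟩
    obtain ⟨a, rfl⟩ := QuotientGroup.mk'_surjective _ a
    obtain ⟨b, rfl⟩ := QuotientGroup.mk'_surjective _ b
    rw [← commutatorElement_eq_one_iff_mul_comm, ← map_commutatorElement]
    exact (QuotientGroup.eq_one_iff _).mpr
      (Subgroup.mem_sup_right (Subgroup.commutator_mem_commutator a.2 b.2))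
  letI : CommGroup (↥M ⧸ K) :=
    { (inferInstance : Group (↥M ⧸ K)) with mul_comm := hab.is_comm.comm }
  set φ : ↥M →* ↥M ⧸ K := QuotientGroup.mk' K with hφ
  have hφD : ∀ (z : G) (hz : z ∈ M), z ∈ D ⊓ Q → φ ⟨z, hz⟩ = 1 := fun z hz h =>
    (QuotientGroup.eq_one_iff _).mpr (show z ∈ (D ⊓ Q) ⊔ ⁅M, M⁆ from Subgroup.mem_sup_left h)
  obtain ⟨z₀, hz₀, hz₀D⟩ := SetLike.not_le_iff_exists.mp hUD
  have hφz₀ : φ ⟨z₀, hUM hz₀⟩ ≠ 1 := by
    intro h
    have h1 : z₀ ∈ (D ⊓ Q) ⊔ ⁅M, M⁆ :=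
      Subgroup.mem_subgroupOf.mp (show (⟨z₀, hUM hz₀⟩ : ↥M) ∈ K from (QuotientGroup.eq_one_iff _).mp h)
    have hDM : D ⊓ Q ≤ Subgroup.normalizer ((⁅M, M⁆ : Subgroup G) : Set G) := by
      intro x hx
      rw [Subgroup.mem_normalizer_iff_map_conj_eq]
      show ⁅M, M⁆.map (MulAut.conj x).toMonoidHom = ⁅M, M⁆
      rw [Subgroup.map_commutator, conjMap_eq_self (H := M)
        (Subgroup.le_normalizer (hSM (hQS (Subgroup.mem_inf.mp hx).2)))]
    obtain ⟨d, hd, m, hm, rfl⟩ := (Coprime.mem_sup_iff_of_le_normalizer hDM).mp h1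
    obtain ⟨hdD, hdQ⟩ := Subgroup.mem_inf.mp hd
    have hmQ : m ∈ Q := by simpa using mul_mem (inv_mem hdQ) (hUQ hz₀)
    exact hz₀D (mul_mem hdD (hMD (Subgroup.mem_inf.mpr ⟨hmQ, hm⟩)).2)
  -- functions on `U` indexed by the cosets of `M`
  have hUconj : ∀ (x : G), ∀ z ∈ U, x⁻¹ * z * x ∈ M := fun x z hz => hUM (by
    simpa using hUn.conj_mem z hz x⁻¹)
  let f : G → ↥U →* ↥M ⧸ K := fun x =>
    { toFun := fun z => φ ⟨x⁻¹ * (z : G) * x, hUconj x z z.2⟩
      map_one' := by
        rw [← map_one φ]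
        congr 1
        exact Subtype.ext (by simp)
      map_mul' := fun a b => by
        rw [← map_mul]
        congr 1
        exact Subtype.ext (by simp [mul_assoc]) }
  have hcoset : ∀ (x : G) (m : ↥M) (z : ↥U), f (x * m) z = f x z := by
    intro x m z
    have : (⟨(x * m)⁻¹ * (z : G) * (x * m), hUconj _ z z.2⟩ : ↥M) =
        m⁻¹ * ⟨x⁻¹ * (z : G) * x, hUconj x z z.2⟩ * m := Subtype.ext (by simp [mul_assoc])
    show φ _ = φ _
    rw [this, map_mul, map_mul, map_inv, mul_comm (φ m)⁻¹, inv_mul_cancel_right]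
  let F : G ⧸ M → ↥U →* ↥M ⧸ K := fun q => f q.out
  let ρ : ↥(S : Subgroup G) →* MulAut ↥U := (MulAut.conjNormal).comp (S : Subgroup G).subtype
  have hF : ∀ (l : ↥(S : Subgroup G)) (q : G ⧸ M) (z : ↥U), F (l • q) (ρ l z) = F q z := by
    intro l q z
    have h1 : (q.out⁻¹ * ((l : G)⁻¹ * (l • q).out)) ∈ M := by
      have e : ((l • q).out : G ⧸ M) = (((l : G) * q.out : G) : G ⧸ M) := by
        rw [QuotientGroup.out_eq']
        conv_lhs => rw [← QuotientGroup.out_eq' q]
        rfl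
      have h2 := QuotientGroup.eq.mp e.symm
      simpa [mul_assoc] using h2
    have h2 : F (l • q) (ρ l z) = f ((l : G) * q.out * (⟨_, h1⟩ : ↥M)) (ρ l z) := by
      show f _ _ = f _ _
      congr 2
      group
    rw [h2, hcoset]
    show φ _ = φ _
    congr 1
    exact Subtype.ext (by simp [ρ, MulAut.conjNormal_apply, mul_assoc])
  have hexp : ∀ (x : G) (z : ↥U), f x z ^ p = 1 := by
    intro x z
    rw [← map_pow]
    have hzV : ((z ^ p : ↥U) : G) ∈ V := by
      simpa using pow_mem_of_isChiefFactor hUV (PCore.isPGroup_pCore.to_le hUQ) z.2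
    have : x⁻¹ * ((z ^ p : ↥U) : G) * x ∈ V := by simpa using hUV.2.2.1.conj_mem _ hzV x⁻¹
    exact hφD _ _ (Subgroup.mem_inf.mpr ⟨hVD this, hVQ this⟩)
  have hkill : ∀ e ∈ {e : ↥(S : Subgroup G) | (e : G) ∈ E}, ∀ (q : G ⧸ M) (z : ↥U),
      ∏ j ∈ Finset.range p, F q (ρ (e ^ j) z) = 1 := by
    intro e he q z
    have hiter : ∀ j, ρ (e ^ j) z = ((ρ e).toMonoidHom)^[j] z := by
      intro j
      induction j with
      | zero => simp
      | succ j ih => rw [pow_succ', map_mul, MulAut.mul_apply, ih, Function.iterate_succ_apply']; rfl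
    simp only [hiter]
    refine prod_iterate_eq_one (p := p) (ρ e).toMonoidHom
      (fun i => (Cfsg.iterCommutator U (Subgroup.zpowers (e : G)) i).subgroupOf U)
      (Subgroup.subgroupOf_self U) (fun i y hy => ?_) (F q) (fun y hy => ?_) (fun y => hexp _ y) z
    · have h1 := Subgroup.commutator_mem_commutator (inv_mem (Subgroup.mem_subgroupOf.mp hy))
        (Subgroup.mem_zpowers (e : G))
      rw [Subgroup.mem_subgroupOf]
      have e1 : ((y⁻¹ * (ρ e).toMonoidHom y : ↥U) : G) = ⁅(y : G)⁻¹, (e : G)⁆ := by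
        show (y : G)⁻¹ * ((e : G) * (y : G) * (e : G)⁻¹) = _
        rw [commutatorElement_def]
        group
      rw [e1]
      exact h1
    · have hyV : (y : G) ∈ V := he.2 (Subgroup.mem_subgroupOf.mp hy)
      have : q.out⁻¹ * (y : G) * q.out ∈ V := by simpa using hUV.2.2.1.conj_mem _ hyV q.out⁻¹
      exact hφD _ _ (Subgroup.mem_inf.mpr ⟨hVD this, hVQ this⟩)
  haveI : Fintype (G ⧸ M) := Fintype.ofFinite _
  let q₁ : G ⧸ M := ((1 : G) : G ⧸ M)
  have hrest : ∏ q ∈ (Finset.univ.erase q₁), F q ⟨z₀, hz₀⟩ = 1 := by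
    refine prod_eq_one_of_moved S.2 ρ {e | (e : G) ∈ E} F hF hkill _ (fun l q hq => ?_)
      (fun q hq => ?_) _
    · refine Finset.mem_erase.mpr ⟨fun h => (Finset.mem_erase.mp hq).1 ?_, Finset.mem_univ _⟩
      rw [← inv_smul_smul l q, h]
      show (((l⁻¹ : ↥(S : Subgroup G)) : G) * 1 : G) = ((1 : G) : G ⧸ M)
      rw [QuotientGroup.eq]
      simpa using hSM l.2
    · by_contra hfix
      simp only [not_exists, not_and, not_not] at hfix
      refine (Finset.mem_erase.mp hq).1 ?_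
      have hy : q.out⁻¹ ∈ M := by
        refine hmove _ fun e he => ?_
        have h1 : (((e * q.out : G)) : G ⧸ M) = (q.out : G ⧸ M) := by
          have := hfix ⟨e, he.1⟩ he
          conv_rhs => rw [QuotientGroup.out_eq', ← this]
          conv_rhs => rw [← QuotientGroup.out_eq' q]
          rfl
        have h2 := QuotientGroup.eq.mp h1.symm
        simpa [mul_assoc] using h2
      rw [← QuotientGroup.out_eq' q]
      exact QuotientGroup.eq.mpr (by simpa using hy)
  have htr : MonoidHom.transfer φ z₀ = 1 :=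
    Abelianization.commutator_subset_ker (MonoidHom.transfer φ) (hUQ' hz₀).2
  rw [transfer_of_forall_conj_mem φ z₀ fun x => hUconj x z₀ hz₀] at htr
  have hall : ∏ q : G ⧸ M, F q ⟨z₀, hz₀⟩ = 1 := htr
  rw [← Finset.mul_prod_erase _ _ (Finset.mem_univ q₁), hrest, mul_one] at hall
  apply hφz₀
  have h1 : F q₁ ⟨z₀, hz₀⟩ = f 1 ⟨z₀, hz₀⟩ := by
    have h2 : q₁.out ∈ M := by
      have := QuotientGroup.eq.mp (QuotientGroup.out_eq' q₁).symm
      simpa using this
    show f q₁.out _ = _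
    conv_rhs => rw [← hcoset 1 ⟨_, h2⟩, one_mul]
  rw [h1] at hall
  refine Eq.trans ?_ hall
  show φ _ = φ _
  congr 1
  exact Subtype.ext (by simp)

/-- In a minimal failure no element of `S` outside `O_p(G)` is Engel on the chief factors. -/
theorem not_isEngel {u : G} (huS : u ∈ (S : Subgroup G)) (huQ : u ∉ Cfsg.pCore p G) :
    ¬ IsEngel p (Cfsg.pCore p G) u := fun hu => by
  obtain ⟨U, V, hUV, hUQ', hVD, hUD⟩ := exists_chief_below (Cfsg.pCore p G ⊓ commutator G) _ hfail
  exact not_engel_factor h𝓦 hne IH S hfail hUV hUQ' hVD hUD huS huQ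
    (hu U V hUV (hUQ'.trans inf_le_left))

omit hfail in
theorem pCore_inf_commutator_le_of_engel {u : G} (huS : u ∈ (S : Subgroup G))
    (huQ : u ∉ Cfsg.pCore p G) (hu : IsEngel p (Cfsg.pCore p G) u) :
    Cfsg.pCore p G ⊓ commutator G ≤ transferGen (inducedFamily 𝓦 G) (S : Subgroup G) := by
  by_contra hfail
  exact not_isEngel h𝓦 hne IH S hfail huS huQ hu

end Main

end Cfsg.Agent.ConjFun
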