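import Cfsg.Agent.Lib.Transfer.FunctorBasic
import Cfsg.Agent.Lib.ConjFun.Basic

/-!
# Conjugation families

* `isConjugationFamily_of_fusionChain`: from fusion chains to `IsConjugationFamily`
* `isConjugationFamily_of_fullyNormalized`: enough fully normalized members
-/

set_option autoImplicit false

namespace Cfsg.Agent.ConjFun

universe u

variable {G : Type u} [Group G]

theorem exists_list_of_fusionChain {C : Subgroup G → Prop} {A : Set G} {g : G}
    (h : Transfer.FusionChain C A g) :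
    ∃ (n : ℕ) (T : Fin n → Subgroup G) (x : Fin n → G), (List.ofFn x).prod = g ∧
      (∀ i, C (T i)) ∧ (∀ i, x i ∈ Subgroup.normalizer ((T i : Subgroup G) : Set G)) ∧
      ∀ i : Fin n, (fun a => (((List.ofFn x).take i.val).prod)⁻¹ * a *
        ((List.ofFn x).take i.val).prod) '' A ⊆ T i := by
  induction h with
  | one A => exact ⟨0, Fin.elim0, Fin.elim0, rfl, fun i => i.elim0, fun i => i.elim0, fun i => i.elim0⟩
  | @step A D y k hD hA hy _ ih =>
    obtain ⟨n, T, x, hx, hC, hN, hT⟩ := ih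
    refine ⟨n + 1, Fin.cons D T, Fin.cons y x, ?_, ?_, ?_, ?_⟩
    · rw [List.ofFn_succ, List.prod_cons]
      simp [hx]
    · exact fun i => Fin.cases (by simpa using hD) (fun j => by simpa using hC j) i
    · exact fun i => Fin.cases (by simpa using hy) (fun j => by simpa using hN j) i
    · intro i
      refine Fin.cases ?_ ?_ i
      · rintro _ ⟨a, ha, rfl⟩
        simpa using hA ha
      · intro j
        rintro _ ⟨a, ha, rfl⟩
        have h1 := hT j ⟨y⁻¹ * a * y, ⟨a, ha, rfl⟩, rfl⟩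
        simpa [List.ofFn_succ, mul_assoc] using h1

theorem isConjugationFamily_of_fusionChain {𝓕 : Set (Subgroup G)} {S : Subgroup G}
    (hS : ∀ T ∈ 𝓕, T ≤ S)
    (h : ∀ (A : Set G) (g : G), A ⊆ S → (fun a => g⁻¹ * a * g) '' A ⊆ S →
      Transfer.FusionChain (fun T => T ∈ 𝓕) A g) : Cfsg.IsConjugationFamily 𝓕 S := by
  refine ⟨hS, fun A g _ hA hAg => ?_⟩
  obtain ⟨n, T, x, hx, hC, hN, hT⟩ := exists_list_of_fusionChain (h A g hA hAg)
  refine ⟨n, T, x, hx, hC, hN, fun hn a ha => ?_, fun i hi => hT ⟨i.val + 1, hi⟩⟩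
  have h1 := hT ⟨0, hn⟩ ⟨a, ha, rfl⟩
  simpa using h1

variable [Finite G] {p : ℕ} [Fact p.Prime]

/-- Enough fully normalized members give a conjugation family. -/
theorem isConjugationFamily_of_fullyNormalized (S : Sylow p G) (𝓕 : Set (Subgroup G))
    (h𝓕 : ∀ U ∈ 𝓕, U ≤ (S : Subgroup G))
    (h : ∀ T : Subgroup G, T ≤ (S : Subgroup G) → ∃ U ∈ 𝓕,
      (∃ g : G, T.map (MulAut.conj g).toMonoidHom = U) ∧
        ¬ p ∣ ((S : Subgroup G) ⊓ Subgroup.normalizer ((U : Subgroup G) : Set G)).relIndex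
          (Subgroup.normalizer ((U : Subgroup G) : Set G))) :
    Cfsg.IsConjugationFamily 𝓕 (S : Subgroup G) := by
  refine isConjugationFamily_of_fusionChain h𝓕 fun A g hA hAg => ?_
  suffices H : ∀ (k : ℕ) (E : Subgroup G) (x : G),
      Nat.card (S : Subgroup G) - Nat.card ↥E = k → E ≤ (S : Subgroup G) →
      (∀ a ∈ E, x⁻¹ * a * x ∈ (S : Subgroup G)) →
      Transfer.FusionChain (fun T => T ∈ 𝓕) (E : Set G) x by
    refine (H _ (Subgroup.closure A) g rfl ((Subgroup.closure_le _).mpr hA) fun a ha => ?_).mono A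
      Subgroup.subset_closure
    have hle : Subgroup.closure A ≤
        (S : Subgroup G).comap (MulAut.conj g⁻¹).toMonoidHom := by
      refine (Subgroup.closure_le _).mpr fun b hb => ?_
      show g⁻¹ * b * g⁻¹⁻¹ ∈ (S : Subgroup G)
      rw [inv_inv]
      exact hAg ⟨b, hb, rfl⟩
    simpa using hle ha
  intro k
  induction k using Nat.strong_induction_on with
  | _ k IH =>
  intro E x hk hES hEx
  set E' := E.map (MulAut.conj x⁻¹).toMonoidHom with hE'def
  have hE'mem : ∀ a ∈ E, x⁻¹ * a * x ∈ E' := fun a ha => ⟨a, ha, by simp⟩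
  have hE'S : E' ≤ (S : Subgroup G) := by
    rintro _ ⟨a, ha, rfl⟩
    simpa using hEx a ha
  obtain ⟨U, hU, ⟨g₀, hg₀⟩, hfn⟩ := h E hES
  rcases eq_or_lt_of_le hES with hE | hE
  · have hUS : U = (S : Subgroup G) := Subgroup.eq_of_le_of_card_ge (h𝓕 U hU)
      (by rw [← hg₀, card_conjMap, hE])
    refine Transfer.FusionChain.single (hUS ▸ hU) hE.le ?_
    have h1 : (S : Subgroup G).map (MulAut.conj x⁻¹).toMonoidHom = (S : Subgroup G) :=
      Subgroup.eq_of_le_of_card_ge (hE ▸ hE'S) (card_conjMap _ _).ge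
    have h2 : x⁻¹ ∈ Subgroup.normalizer ((S : Subgroup G) : Set G) :=
      Subgroup.mem_normalizer_iff_map_conj_eq.mpr h1
    exact inv_inv x ▸ inv_mem h2
  -- transport to `U` inside larger subgroups
  have hgo : ∀ F : Subgroup G, F ≤ (S : Subgroup G) → F < (S : Subgroup G) →
      Nat.card ↥F = Nat.card ↥E → (∃ t : G, F.map (MulAut.conj t).toMonoidHom = U) →
      ∃ a : G, F.map (MulAut.conj a⁻¹).toMonoidHom = U ∧
        Transfer.FusionChain (fun T => T ∈ 𝓕) (F : Set G) a := by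
    rintro F hFS hFlt hFc ⟨t, ht⟩
    set N := (S : Subgroup G) ⊓ Subgroup.normalizer (F : Set G) with hN
    have hle : N.map (MulAut.conj t).toMonoidHom ≤ Subgroup.normalizer (U : Set G) := by
      rw [← ht, ← conjMap_normalizer]
      exact Subgroup.map_mono inf_le_right
    obtain ⟨n, hn, hnle⟩ := exists_conj_le_of_relIndex (S.2.to_le inf_le_left) hfn hle
      ((S.2.to_le inf_le_left).map _)
    rw [← conjMap_mul] at hnle
    refine ⟨(n * t)⁻¹, ?_, ?_⟩
    · rw [inv_inv, conjMap_mul, ht, conjMap_eq_self hn]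
    · have hgrow : Nat.card ↥F < Nat.card ↥N := Transfer.card_lt_inf_normalizer S hFlt
      have hsub : (F : Set G) ⊆ N := fun a ha =>
        Subgroup.mem_inf.mpr ⟨hFS ha, Subgroup.le_normalizer ha⟩
      refine (IH _ ?_ N (n * t)⁻¹ rfl inf_le_left fun a ha => ?_).mono _ hsub
      · have h2 : Nat.card ↥E < Nat.card ↥N := hFc ▸ hgrow
        have h3 : Nat.card ↥N ≤ Nat.card ↥(S : Subgroup G) := Subgroup.card_le_of_le inf_le_left
        rw [← hk]
        exact Nat.sub_lt_sub_left (h2.trans_le h3) h2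
      · have h1 : (n * t) * a * (n * t)⁻¹ ∈ (S : Subgroup G) :=
          inf_le_left (a := (S : Subgroup G)) (hnle ⟨a, ha, rfl⟩)
        rwa [inv_inv]
  obtain ⟨a, ha, hca⟩ := hgo E hES hE rfl ⟨g₀, hg₀⟩
  have hE'card : Nat.card ↥E' = Nat.card ↥E := card_conjMap _ _
  obtain ⟨b, hb, hcb⟩ := hgo E' hE'S (lt_of_le_of_ne hE'S fun he => hE.ne
    (Subgroup.eq_of_le_of_card_ge hES (by rw [← hE'card, he]))) hE'card
    ⟨g₀ * x, by
      rw [hE'def, ← conjMap_mul, mul_inv_cancel_right, hg₀]⟩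
  have hz : a⁻¹ * x * b ∈ Subgroup.normalizer (U : Set G) := by
    have h1 : U.map (MulAut.conj (a⁻¹ * x * b)).toMonoidHom = U := by
      conv_lhs => rw [← hb, hE'def, ← conjMap_mul, ← conjMap_mul]
      rw [show a⁻¹ * x * b * b⁻¹ * x⁻¹ = a⁻¹ by group, ha]
    exact Subgroup.mem_normalizer_iff_map_conj_eq.mpr h1
  have e1 : (fun y => a⁻¹ * y * a) '' (E : Set G) ⊆ (U : Set G) := by
    rintro _ ⟨y, hy, rfl⟩
    rw [SetLike.mem_coe, ← ha]
    exact ⟨y, hy, by simp⟩
  have hmain : Transfer.FusionChain (fun T => T ∈ 𝓕) (E : Set G) (a * (a⁻¹ * x * b * b⁻¹)) := by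
    refine hca.trans _ (Transfer.FusionChain.step hU e1 hz ?_)
    refine hcb.inv.mono _ ?_
    rintro _ ⟨_, ⟨y, hy, rfl⟩, rfl⟩
    exact ⟨x⁻¹ * y * x, hE'mem y hy, by group⟩
  rwa [show a * (a⁻¹ * x * b * b⁻¹) = x by group] at hmain

end Cfsg.Agent.ConjFun
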