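import Mathlib.GroupTheory.FixedPointFree
import Mathlib.GroupTheory.SpecificGroups.KleinFour
import Mathlib.GroupTheory.OrderOfElement
import Mathlib.Algebra.Group.Conj
import Mathlib.GroupTheory.Subgroup.Simple

/-!
# An involution fixed point free on proper normal subgroups, with a four-group of conjugates
-/

set_option autoImplicit false

namespace Cfsg.Agent.ConjFun

universe u

variable {H : Type u} [Group H] [Finite H] (z : H) (hz : orderOf z = 2)
  (hN : ∀ N : Subgroup H, N.Normal → N ≠ ⊤ → N ⊓ Subgroup.centralizer ({z} : Set H) = ⊥)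
include hz hN

theorem inverts {N : Subgroup H} [hn : N.Normal] (hne : N ≠ ⊤) :
    IsMulCommutative ↥N ∧ ∀ n ∈ N, z * n * z⁻¹ = n⁻¹ := by
  set φ : ↥N → ↥N := fun n => MulAut.conjNormal z n with hφ
  have hinv : Function.Involutive φ := fun n => by
    refine Subtype.ext ?_
    show z * (z * (n : H) * z⁻¹) * z⁻¹ = n
    have h2 : z * z = 1 := by rw [← pow_two, ← hz, pow_orderOf_eq_one]
    calc z * (z * (n : H) * z⁻¹) * z⁻¹ = z * z * n * (z * z)⁻¹ := by group
      _ = n := by rw [h2]; group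
  have hfpf : MonoidHom.FixedPointFree ((MulAut.conjNormal z : MulAut ↥N) : ↥N → ↥N) := by
    intro n hn'
    refine Subtype.ext (Subgroup.mem_bot.mp (hN N hn hne ▸ Subgroup.mem_inf.mpr ⟨n.2, ?_⟩))
    rw [Subgroup.mem_centralizer_singleton_iff]
    exact (mul_inv_eq_iff_eq_mul.mp (congrArg Subtype.val hn')).symm
  refine ⟨⟨⟨fun a b => hfpf.commute_all_of_involutive hinv a b⟩⟩, fun n hn' => ?_⟩
  exact congrArg Subtype.val (congrFun (hfpf.coe_eq_inv_of_involutive hinv) ⟨n, hn'⟩)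

variable (E : Subgroup H) (hE : IsKleinFour ↥E) (hzE : z ∈ E)
  (hc : ∀ e ∈ E, e ≠ 1 → IsConj z e)
include hE hzE hc

omit hN in
theorem exists_other : ∃ e ∈ E, e ≠ 1 ∧ e ≠ z := by
  haveI := hE
  by_contra hcon
  push_neg at hcon
  classical
  haveI : Fintype ↥E := Fintype.ofFinite _
  have h4 : Nat.card ↥E = 4 := hE.card_four
  have h2 : Nat.card ↥E ≤ 2 := by
    rw [Nat.card_eq_fintype_card, ← Finset.card_univ]
    refine le_trans (Finset.card_le_card (t := ({1, (⟨z, hzE⟩ : ↥E)} : Finset ↥E)) fun e _ => ?_)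
      Finset.card_le_two
    simp only [Finset.mem_insert, Finset.mem_singleton]
    by_cases he : e = 1
    · exact Or.inl he
    · exact Or.inr (Subtype.ext (hcon e e.2 fun h => he (Subtype.ext h)))
  omega

theorem eq_bot_of_abelian (N : Subgroup H) [hn : N.Normal] (hab : IsMulCommutative ↥N) : N = ⊥ := by
  obtain ⟨e, heE, he1, hez⟩ := exists_other z hz E hE hzE hc
  have hne : N ≠ ⊤ := by
    intro htop
    obtain ⟨c, hcc⟩ := isConj_iff.mp (hc e heE he1)
    have h1 : (⟨c, htop ▸ Subgroup.mem_top c⟩ : ↥N) * ⟨z, htop ▸ Subgroup.mem_top z⟩ =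
        ⟨z, htop ▸ Subgroup.mem_top z⟩ * ⟨c, htop ▸ Subgroup.mem_top c⟩ := hab.is_comm.comm _ _
    have h2 : c * z = z * c := congrArg Subtype.val h1
    exact hez (by rw [← hcc, h2, mul_inv_cancel_right])
  obtain ⟨-, hinv⟩ := inverts z hz hN hne
  have hconj : ∀ t ∈ E, t ≠ 1 → ∀ n ∈ N, t * n * t⁻¹ = n⁻¹ := by
    intro t ht ht1 n hn'
    obtain ⟨c, rfl⟩ := isConj_iff.mp (hc t ht ht1)
    have h1 := hinv (c⁻¹ * n * c) (by simpa using hn.conj_mem n hn' c⁻¹)
    calc c * z * c⁻¹ * n * (c * z * c⁻¹)⁻¹ = c * (z * (c⁻¹ * n * c) * z⁻¹) * c⁻¹ := by group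
      _ = n⁻¹ := by rw [h1]; group
  refine (Subgroup.eq_bot_iff_forall _).mpr fun n hn' => ?_
  have h2 : z * z = 1 := by rw [← pow_two, ← hz, pow_orderOf_eq_one]
  have hze : z * e ≠ 1 := fun h => hez (mul_left_cancel (h.trans h2.symm))
  have h3 : z * e * n * (z * e)⁻¹ = n⁻¹ := hconj _ (mul_mem hzE heE) hze n hn'
  have h4 : z * e * n * (z * e)⁻¹ = n := by
    calc z * e * n * (z * e)⁻¹ = z * (e * n * e⁻¹) * z⁻¹ := by group
      _ = n := by rw [hconj e heE he1 n hn', hinv _ (inv_mem hn'), inv_inv]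
  refine Subgroup.mem_bot.mp (hN N hn hne ▸ Subgroup.mem_inf.mpr ⟨hn', ?_⟩)
  rw [Subgroup.mem_centralizer_singleton_iff]
  have h5 : z * n * z⁻¹ = n := (hinv n hn').trans (h3.symm.trans h4)
  exact (mul_inv_eq_iff_eq_mul.mp h5).symm

theorem isSimpleGroup_of_four : IsSimpleGroup H := by
  haveI : Nontrivial H := nontrivial_of_ne z 1 fun h => by
    rw [h, orderOf_one] at hz
    exact absurd hz (by norm_num)
  refine ⟨fun N hn => ?_⟩
  by_cases hne : N = ⊤
  · exact Or.inr hne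
  · exact Or.inl (eq_bot_of_abelian z hz hN E hE hzE hc N (hn := hn) (inverts z hz hN hne).1)

end Cfsg.Agent.ConjFun
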