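import Cfsg.Agent.Lib.ConjFun.Transfer

/-!
# Control of transfer in all sections

* `controls_of_sections`: induction over the sections `K/R` of a group
* `controlsTransferIn_of_controls`, `familyControlsTransferIn_of_controls`
-/

set_option autoImplicit false

namespace Cfsg.Agent.ConjFun

universe u

variable {p : ℕ} [Fact p.Prime] {𝓦 : Set (∀ (Q : Type u) [Group Q], Subgroup Q)}
  (h𝓦 : ∀ W ∈ 𝓦, Cfsg.IsCharPFunctor.{u} p W)
include h𝓦

/-- Induction over the sections: only the constrained sections need an argument. -/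
theorem controls_of_sections {G : Type u} [Group G] [Finite G]
    (hcon : ∀ (K R : Subgroup G) [hR : (R.subgroupOf K).Normal],
      (∀ (X : Type u) [Group X], Cfsg.Involves X (↥K ⧸ R.subgroupOf K) →
        Nat.card X < Nat.card (↥K ⧸ R.subgroupOf K) → Controls p 𝓦 X) →
      Subgroup.centralizer (Cfsg.pCore p (↥K ⧸ R.subgroupOf K) : Set (↥K ⧸ R.subgroupOf K)) ≤
        Cfsg.pCore p (↥K ⧸ R.subgroupOf K) →
      ∀ S : Sylow p (↥K ⧸ R.subgroupOf K),
        Cfsg.pCore p (↥K ⧸ R.subgroupOf K) ⊓ commutator (↥K ⧸ R.subgroupOf K) ≤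
          transferGen (inducedFamily 𝓦 (↥K ⧸ R.subgroupOf K))
            (S : Subgroup (↥K ⧸ R.subgroupOf K)))
    (X : Type u) [Group X] (hX : Cfsg.Involves X G) : Controls p 𝓦 X := by
  suffices H : ∀ (n : ℕ) (X : Type u) [Group X], Cfsg.Involves X G → Nat.card X = n →
      Controls p 𝓦 X from H _ X hX rfl
  intro n
  induction n using Nat.strong_induction_on with
  | _ n IH =>
  intro X _ hX hn
  obtain ⟨K, R, hR, ⟨e⟩⟩ := hX
  haveI : Finite X := Finite.of_equiv _ e.toEquiv
  have hY : Controls p 𝓦 (↥K ⧸ R.subgroupOf K) := by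
    refine controls_step h𝓦 ?_ ?_
    · intro Z _ hZ hlt
      rw [Nat.card_congr e.toEquiv, hn] at hlt
      exact IH _ hlt Z (involves_trans hZ (involves_of_section K R)) rfl
    · refine hcon K R ?_
      intro Z _ hZ hlt
      rw [Nat.card_congr e.toEquiv, hn] at hlt
      exact IH _ hlt Z (involves_trans hZ (involves_of_section K R)) rfl
  exact controls_congr h𝓦 e hY

theorem familyControlsTransferIn_of_controls {G : Type u} [Group G] [Finite G]
    (h : Controls p 𝓦 G) : Cfsg.FamilyControlsTransferIn p (inducedFamily 𝓦 G) ⊤ := by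
  obtain ⟨S⟩ : Nonempty (Sylow p G) := Sylow.nonempty
  exact family_of_transfer_le S (h S)

theorem controlsTransferIn_of_controls {W : ∀ (Q : Type u) [Group Q], Subgroup Q}
    (hW : 𝓦 = {W}) {G : Type u} [Group G] [Finite G] (h : Controls p 𝓦 G) :
    Cfsg.ControlsTransferIn p (Cfsg.inducedFunctor (G := G) W) ⊤ := by
  subst hW
  rw [controlsTransferIn_top_iff, ← inducedFamily_singleton]
  exact familyControlsTransferIn_of_controls h𝓦 h

/-- If some `W(S)` is normal, the family controls transfer on the core. -/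
theorem pCore_inf_commutator_le_of_normal {G : Type u} [Group G] [Finite G]
    {W : ∀ (Q : Type u) [Group Q], Subgroup Q} (hW : W ∈ 𝓦) (S : Sylow p G)
    (hn : (Cfsg.inducedFunctor (G := G) W (S : Subgroup G)).Normal) :
    Cfsg.pCore p G ⊓ commutator G ≤ transferGen (inducedFamily 𝓦 G) (S : Subgroup G) := by
  haveI := hn
  rw [transferGen_inducedFamily]
  refine le_trans ?_ (le_iSup₂ (f := fun W (_ : W ∈ 𝓦) => (S : Subgroup G) ⊓
      ⁅Subgroup.normalizer ((Cfsg.inducedFunctor (G := G) W S : Subgroup G) : Set G),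
        Subgroup.normalizer ((Cfsg.inducedFunctor (G := G) W S : Subgroup G) : Set G)⁆) W hW)
  rw [Subgroup.normalizer_eq_top]
  exact inf_le_inf (PCore.pCore_le_sylow S) le_rfl

end Cfsg.Agent.ConjFun
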