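import Cfsg.Agent.Lib.ConjFun.Quartic
import Cfsg.Agent.Lib.ConjFun.Sections
import Cfsg.Agent.Lib.ConjFun.Engel
import Cfsg.Agent.Lib.Transfer.SectionFusion

/-!
# The K-infinity subgroups control transfer (`p ≥ 5`) and fusion (`p`-stable sections)

* `controls_kInf`: for `p ≥ 5`
* `controlsStrongFusion_kInf`: when every section is `p`-stable in the normalizer form
-/

set_option autoImplicit false

namespace Cfsg.Agent.ConjFun

universe u v

variable {p : ℕ} [Fact p.Prime]

theorem isNormalizerPStable_of_injective {G : Type u} [Group G] [Finite G] {H : Type v} [Group H]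
    (h : Cfsg.IsNormalizerPStable p G) (f : H →* G) (hf : Function.Injective f) :
    Cfsg.IsNormalizerPStable p H := by
  haveI : Finite H := Finite.of_injective f hf
  intro U hU g hg hq
  set U' := U.map f with hU'
  have hg' : f g ∈ Subgroup.normalizer (U' : Set G) := Subgroup.le_normalizer_map f ⟨g, hg, rfl⟩
  have hq' : ⁅⁅U', Subgroup.zpowers (f g)⁆, Subgroup.zpowers (f g)⁆ = ⊥ := by
    rw [← MonoidHom.map_zpowers, ← Subgroup.map_commutator, ← Subgroup.map_commutator, hq,
      Subgroup.map_bot]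
  have h1 := h U' (hU.map f) (f g) hg' hq'
  set N' := Subgroup.normalizer (U' : Set G)
  let φ : ↥(Subgroup.normalizer (U : Set H)) →* ↥N' :=
    (f.comp (Subgroup.normalizer (U : Set H)).subtype).codRestrict N' fun x =>
      Subgroup.le_normalizer_map f ⟨(x : H), x.2, rfl⟩
  set C := (Subgroup.centralizer (U : Set H)).subgroupOf (Subgroup.normalizer (U : Set H)) with hC
  set C' := (Subgroup.centralizer (U' : Set G)).subgroupOf N' with hC'
  have hmem : ∀ x, φ x ∈ C' ↔ x ∈ C := by
    intro x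
    rw [hC, hC', Subgroup.mem_subgroupOf, Subgroup.mem_subgroupOf, Subgroup.mem_centralizer_iff,
      Subgroup.mem_centralizer_iff]
    constructor
    · intro hx u hu
      refine hf ?_
      rw [map_mul, map_mul]
      exact hx (f u) ⟨u, hu, rfl⟩
    · rintro hx _ ⟨u, hu, rfl⟩
      show f u * f (x : H) = f (x : H) * f u
      rw [← map_mul, ← map_mul, hx u hu]
  set ψ := QuotientGroup.map C C' φ (fun x hx => (hmem x).2 hx) with hψ
  have hψi : Function.Injective ψ := by
    refine (injective_iff_map_eq_one _).2 fun q hq => ?_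
    obtain ⟨x, rfl⟩ := QuotientGroup.mk'_surjective C q
    exact (QuotientGroup.eq_one_iff x).2 ((hmem x).1 ((QuotientGroup.eq_one_iff (φ x)).1 hq))
  exact PCore.le_pCore (N := (Cfsg.pCore p (↥N' ⧸ C')).comap ψ)
    (PCore.isPGroup_pCore.comap_of_injective ψ hψi) h1

variable {W : ∀ (Q : Type u) [Group Q], Subgroup Q}

theorem isCharPFunctor_of_kInf
    (hW : W = Cfsg.kInfLower.{u} ∨ W = Cfsg.kInfUpper.{u}) : Cfsg.IsCharPFunctor.{u} p W := by
  rcases hW with rfl | rfl
  · exact KInf.isCharPFunctor_kInfLower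
  · exact KInf.isCharPFunctor_kInfUpper

theorem not_normal_kInf {G : Type u} [Group G] (hW : W = Cfsg.kInfLower.{u} ∨ W = Cfsg.kInfUpper.{u})
    {S : Subgroup G} (h : ¬ (Cfsg.inducedFunctor (G := G) W S).Normal) :
    ¬ (Cfsg.inducedFunctor (G := G) Cfsg.kInfLower S).Normal ∨
      ¬ (Cfsg.inducedFunctor (G := G) Cfsg.kInfUpper S).Normal := by
  rcases hW with rfl | rfl
  · exact Or.inl h
  · exact Or.inr h

/-- For `p ≥ 5` the K-infinity subgroups control transfer. -/
theorem controls_kInf (hp : 5 ≤ p) (hW : W = Cfsg.kInfLower.{u} ∨ W = Cfsg.kInfUpper.{u})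
    {G : Type u} [Group G] [Finite G] (X : Type u) [Group X] (hX : Cfsg.Involves X G) :
    Controls p {W} X := by
  have h𝓦 : ∀ V ∈ ({W} : Set (∀ (Q : Type u) [Group Q], Subgroup Q)),
      Cfsg.IsCharPFunctor.{u} p V := by
    rintro V rfl
    exact isCharPFunctor_of_kInf hW
  refine controls_of_sections h𝓦 ?_ X hX
  intro K R _ IH hC S
  by_cases hn : (Cfsg.inducedFunctor (G := (↥K ⧸ R.subgroupOf K)) W
      ((S : Subgroup (↥K ⧸ R.subgroupOf K)))).Normal
  · exact pCore_inf_commutator_le_of_normal h𝓦 rfl S hn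
  · obtain ⟨g, hgS, hgT, h4, -, -⟩ := exists_quartic S (not_normal_kInf hW hn)
    refine pCore_inf_commutator_le_of_engel h𝓦 ⟨W, rfl⟩ IH S hgS hgT fun U V hUV hU => ?_
    haveI := hUV.2.2.1
    exact iterCommutator_le_of_le (by omega) (h4 U V hUV hU)

/-- If every section is `p`-stable, the K-infinity subgroups control fusion. -/
theorem controlsStrongFusion_kInf (hW : W = Cfsg.kInfLower.{u} ∨ W = Cfsg.kInfUpper.{u})
    {G : Type u} [Group G] [Finite G]
    (hst : ∀ (K R : Subgroup G) [hR : (R.subgroupOf K).Normal],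
      Cfsg.IsNormalizerPStable p (↥K ⧸ R.subgroupOf K)) (T : Sylow p G) :
    Cfsg.ControlsStrongFusion p (Cfsg.inducedFunctor (G := G) W (T : Subgroup G)) := by
  have h𝓦 : ∀ V ∈ ({W} : Set (∀ (Q : Type u) [Group Q], Subgroup Q)),
      Cfsg.IsCharPFunctor.{u} p V := by
    rintro V rfl
    exact isCharPFunctor_of_kInf hW
  have hnormal : ∀ (K R : Subgroup G) [hR : (R.subgroupOf K).Normal],
      Subgroup.centralizer (Cfsg.pCore p (↥K ⧸ R.subgroupOf K) : Set (↥K ⧸ R.subgroupOf K)) ≤
        Cfsg.pCore p (↥K ⧸ R.subgroupOf K) → ∀ S : Sylow p (↥K ⧸ R.subgroupOf K),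
      (Cfsg.inducedFunctor (G := (↥K ⧸ R.subgroupOf K)) W
        ((S : Subgroup (↥K ⧸ R.subgroupOf K)))).Normal := by
    intro K R _ hC S
    by_contra hn
    obtain ⟨g, -, -, -, -, h1⟩ := exists_quartic S (not_normal_kInf hW hn)
    obtain ⟨A, hA, hA'⟩ := h1 hC
    obtain ⟨N, hN, hns⟩ := not_isNormalizerPStable_quotient hA hA'
    obtain ⟨K', R', hR', ⟨e⟩⟩ := involves_trans (involves_quotient N) (involves_of_section K R)
    exact hns (isNormalizerPStable_of_injective (hst K' R') e.symm.toMonoidHom e.symm.injective)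
  have hfus : Transfer.Fus p ({W} : Set (∀ (Q : Type u) [Group Q], Subgroup Q)) G := by
    refine Transfer.fus_of_constrained_sections (G := G) h𝓦 (fun K' R' _ hC => ?_) _
      (involves_refl G)
    obtain ⟨S⟩ : Nonempty (Sylow p (↥K' ⧸ R'.subgroupOf K')) := inferInstance
    refine Transfer.familyControlsStrongFusionIn_of_lchain le_top S.2
      (by rw [Subgroup.relIndex_top_right]; exact S.not_dvd_index) fun A g _ hA hAg => ?_
    refine Transfer.LChain.single ⟨_, ⟨W, rfl, rfl⟩, rfl⟩
      (Subgroup.mem_inf.mpr ⟨Subgroup.mem_top g, ?_⟩) hAg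
    rw [Subgroup.normalizer_eq_top_iff.mpr (hnormal K' R' hC S)]
    exact Subgroup.mem_top g
  refine ⟨T, inducedFunctor_le W _, fun A hA => ⟨hA, fun g hg => ?_⟩⟩
  have hch := Transfer.lchain_of_familyControlsStrongFusionIn
    (Transfer.isConjugacyFunctor_sectionFamily h𝓦) le_top T.2
    (by rw [Subgroup.relIndex_top_right]; exact T.not_dvd_index) hfus (A := A) (g := g)
    (Subgroup.mem_top g) hA fun a ha => hg ⟨a, ha, rfl⟩
  rw [Transfer.sectionFamily, Set.image_singleton] at hch
  obtain ⟨x, hx, he⟩ := Transfer.lchain_singleton_exists hch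
  exact ⟨x, hx.2, fun a ha => (he a ha).symm⟩

theorem transfer_eq_kInf (hp : 5 ≤ p) (hW : W = Cfsg.kInfLower.{u} ∨ W = Cfsg.kInfUpper.{u})
    {G : Type u} [Group G] [Finite G] (S : Sylow p G) :
    (S : Subgroup G) ⊓ commutator G = (S : Subgroup G) ⊓
      ⁅Subgroup.normalizer ((Cfsg.inducedFunctor (G := G) W (S : Subgroup G) : Subgroup G) : Set G),
        Subgroup.normalizer ((Cfsg.inducedFunctor (G := G) W (S : Subgroup G) : Subgroup G) : Set G)⁆ := by
  refine le_antisymm ?_ (inf_le_inf_left _ (Subgroup.commutator_mono le_top le_top))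
  have h := controls_kInf hp hW G (involves_refl G) S
  rwa [transferGen_inducedFamily, iSup_singleton] at h

end Cfsg.Agent.ConjFun
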