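import Cfsg.Agent.Lib.ConjFun.Quartic
import Cfsg.Agent.Lib.ConjFun.Engel
import Cfsg.Prelude.Def_Amalgam

/-!
# The K-infinity functor in subgroups

* `exists_quadratic_local`: quadratic elements on `Z(O_p(H))` when `W(T)` is not normal in `H`
-/

set_option autoImplicit false

namespace Cfsg.Agent.ConjFun

universe u

variable {G : Type u} [Group G] [Finite G] {p : ℕ} [Fact p.Prime]

theorem center_le_inducedFunctor_kInfLower {P : Subgroup G} (hP : IsPGroup p ↥P) :
    P ⊓ Subgroup.centralizer (P : Set G) ≤ Cfsg.inducedFunctor Cfsg.kInfLower P := fun x hx =>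
  ⟨⟨x, hx.1⟩, KInf.center_le_kInfLower hP
    (Subgroup.mem_center_iff.mpr fun y => Subtype.ext (hx.2 y y.2)), rfl⟩

/-- If `K∞(T)` is not normal in `H`, an element of `T` outside `O_p(H)` is quadratic on `Z(O_p(H))`. -/
theorem exists_quadratic_local {H T : Subgroup G} (hTH : T ≤ H) (hT : IsPGroup p ↥T)
    (hidx : ¬ p ∣ T.relIndex H)
    (hn : ¬ H ≤ Subgroup.normalizer ((Cfsg.inducedFunctor Cfsg.kInfLower T : Subgroup G) : Set G)) :
    ∃ g : G, g ∈ T ∧ g ∉ Cfsg.pCoreOf p H ∧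
      ⁅⁅Cfsg.pCoreOf p H ⊓ Subgroup.centralizer ((Cfsg.pCoreOf p H : Subgroup G) : Set G),
        Subgroup.zpowers g⁆, Subgroup.zpowers g⁆ = ⊥ ∧
      ∀ U V : Subgroup ↥H, Cfsg.IsChiefFactor U V →
        U.map H.subtype ≤ Cfsg.pCoreOf p H ⊓
          Subgroup.centralizer ((Cfsg.pCoreOf p H : Subgroup G) : Set G) →
        Cfsg.iterCommutator (U.map H.subtype) (Subgroup.zpowers g) 2 = ⊥ := by
  obtain ⟨R, hR⟩ := exists_sylow_eq (H := H) hT hidx
  have hTR : (R : Subgroup ↥H).map H.subtype = T := by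
    rw [hR, Subgroup.map_subgroupOf_eq_of_le hTH]
  have hn' : ¬ (Cfsg.inducedFunctor (G := ↥H) Cfsg.kInfLower (R : Subgroup ↥H)).Normal := by
    intro hnor
    refine hn ?_
    rw [← hTR, inducedFunctor_map (KInf.isCharPFunctor_kInfLower (p := p)) H.subtype _ R.2
      H.subtype_injective.injOn]
    haveI := hnor
    intro h hh
    have h1 : (⟨h, hh⟩ : ↥H) ∈ Subgroup.normalizer
        ((Cfsg.inducedFunctor Cfsg.kInfLower (R : Subgroup ↥H) : Subgroup ↥H) : Set ↥H) := by
      rw [Subgroup.normalizer_eq_top]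
      exact Subgroup.mem_top _
    exact Subgroup.le_normalizer_map H.subtype ⟨_, h1, rfl⟩
  obtain ⟨g, hgR, hgQ, -, h2, -⟩ := exists_quartic R (Or.inl hn')
  have hquad : ⁅⁅Cfsg.pCoreOf p H ⊓ Subgroup.centralizer ((Cfsg.pCoreOf p H : Subgroup G) : Set G),
      Subgroup.zpowers (g : G)⁆, Subgroup.zpowers (g : G)⁆ = ⊥ := by
    rw [Cfsg.pCoreOf, ← KInf.map_inf_centralizer H.subtype_injective,
      show Subgroup.zpowers (g : G) = (Subgroup.zpowers g).map H.subtype from
        (MonoidHom.map_zpowers H.subtype g).symm,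
      ← Subgroup.map_commutator, ← Subgroup.map_commutator, h2, Subgroup.map_bot]
  refine ⟨g, hTR.le ⟨g, hgR, rfl⟩, fun hg => hgQ ?_, hquad, fun U V _ hU => ?_⟩
  · obtain ⟨y, hy, hye⟩ := hg
    rwa [← H.subtype_injective hye]
  · refine le_bot_iff.mp ?_
    exact (Subgroup.commutator_mono (Subgroup.commutator_mono hU le_rfl) le_rfl).trans hquad.le

end Cfsg.Agent.ConjFun
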