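import Cfsg.Agent.Lib.PComplement.Offender
import Cfsg.Agent.Lib.Coprime.Generation

/-!
# No elementary abelian 2-offender faithful on an odd-order group, without S₄

`no_offender_two_of_odd`: if `A` is elementary abelian, normalizes a subgroup `F` of odd order of
automorphisms of an elementary abelian 2-group `V`, acts faithfully on it, and no S₃ is induced on a
four-subgroup, then `2|A| ≤ |V : C_V(A)|`.
-/

set_option autoImplicit false

namespace Cfsg.Agent.ConjFun

open PComplement Subgroup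

universe u

variable {V : Type u} [CommGroup V] [Finite V]

theorem no_offender_two_of_odd (hV : ∀ v : V, v ^ 2 = 1) (F : Subgroup (MulAut V))
    (hF : (Nat.card F).Coprime 2) (Γ : Subgroup (MulAut V)) (hFΓ : F ≤ Γ) (hS3 : NoS3 Γ) :
    ∀ A : Subgroup (MulAut V), A ≤ Γ → IsMulCommutative A → (∀ a ∈ A, a * a = 1) →
      (∀ a ∈ A, ∀ w ∈ F, a * w * a⁻¹ ∈ F) → (∀ a ∈ A, (∀ w ∈ F, Commute a w) → a = 1) →
      A ≠ ⊥ → 2 * Nat.card A ≤ (fixedBy' A).index := by
  suffices H : ∀ (n : ℕ) (A : Subgroup (MulAut V)), Nat.card A ≤ n → A ≤ Γ → IsMulCommutative A →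
      (∀ a ∈ A, a * a = 1) → (∀ a ∈ A, ∀ w ∈ F, a * w * a⁻¹ ∈ F) →
      (∀ a ∈ A, (∀ w ∈ F, Commute a w) → a = 1) →
      A ≠ ⊥ → 2 * Nat.card A ≤ (fixedBy' A).index from fun A => H _ A le_rfl
  intro n
  induction n with
  | zero => intro A h; exact absurd h (Nat.not_le.2 Nat.card_pos)
  | succ n ih =>
  intro A hcard hAΓ hAc hA2 hAF hfaith hAne
  haveI := hAc
  haveI : Fact (Nat.Prime 2) := ⟨Nat.prime_two⟩
  have hAcomm : ∀ x ∈ A, ∀ y ∈ A, x * y = y * x := fun x hx y hy =>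
    congrArg Subtype.val (hAc.is_comm.comm ⟨x, hx⟩ ⟨y, hy⟩)
  have hA2p : IsPGroup 2 A := fun a => ⟨1, Subtype.ext (by
    show (a : MulAut V) ^ (2 ^ 1) = 1
    rw [pow_one, pow_two]
    exact hA2 a a.2)⟩
  have hAN : A ≤ normalizer (F : Set (MulAut V)) := by
    intro x hx
    rw [mem_normalizer_iff]
    refine fun w => ⟨hAF x hx w, fun hw => ?_⟩
    have := hAF x⁻¹ (inv_mem hx) _ hw
    simpa [mul_assoc] using this
  have hcop : (Nat.card A).Coprime (Nat.card F) := by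
    obtain ⟨k, hk⟩ := hA2p.exists_card_eq
    rw [hk]
    exact (hF.pow_right k).symm
  -- a hyperplane whose centralizer in `F` is not centralized by `A`
  obtain ⟨B, hBA, ⟨a, haA, hsup⟩, hB⟩ : ∃ B ≤ A, (∃ a ∈ A, B ⊔ zpowers a = A) ∧
      ¬ F ⊓ centralizer (B : Set (MulAut V)) ≤ centralizer (A : Set (MulAut V)) := by
    by_contra hno
    refine hAne ((eq_bot_iff_forall A).2 fun x hx => hfaith x hx fun w hw => ?_)
    have h : F ≤ centralizer (A : Set (MulAut V)) :=
      Coprime.le_of_forall_cyclic_quotient hAN hcop fun B hBA hcyc => by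
        by_contra hne
        exact hno ⟨B, hBA, hcyc, hne⟩
    exact mem_centralizer_iff.1 (h hw) x hx
  obtain ⟨w, ⟨hwF, hwB⟩, hwA⟩ := SetLike.not_le_iff_exists.1 hB
  have haB : a ∉ B := by
    intro h
    have e : B = A := by rw [← hsup, sup_eq_left.2 (zpowers_le.2 h)]
    exact hB (e ▸ inf_le_right)
  have haw : ¬ Commute a w := by
    intro h
    apply hwA
    have hle : A ≤ centralizer ({w} : Set (MulAut V)) := by
      rw [← hsup]
      exact sup_le (fun s hs => mem_centralizer_singleton_iff.2 (mem_centralizer_iff.1 hwB s hs))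
        (zpowers_le.2 (mem_centralizer_singleton_iff.2 h.eq))
    exact mem_centralizer_iff.2 fun s hs => mem_centralizer_singleton_iff.1 (hle hs)
  have haa : a * a = 1 := hA2 a haA
  have hainv : a⁻¹ = a := inv_eq_of_mul_eq_one_left haa
  set c := a * w * a * w⁻¹ with hc
  have hcF : c ∈ F := by
    have := mul_mem (hAF a haA w hwF) (inv_mem hwF)
    rwa [hainv] at this
  have hc1 : c ≠ 1 := by
    intro h
    apply haw
    have h1 : a * w * a⁻¹ = w := by rw [hainv]; exact mul_inv_eq_one.1 h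
    exact mul_inv_eq_iff_eq_mul.1 h1
  have haC : a ∈ centralizer (B : Set (MulAut V)) :=
    mem_centralizer_iff.2 fun s hs => hAcomm s (hBA hs) a haA
  have hcC : c ∈ centralizer (B : Set (MulAut V)) :=
    mul_mem (mul_mem (mul_mem haC hwB) haC) (inv_mem hwB)
  have hcinv : a * c * a⁻¹ = c⁻¹ := by
    rw [hc, hainv, mul_inv_rev, mul_inv_rev, mul_inv_rev, inv_inv, hainv]
    rw [show a * (a * w * a * w⁻¹) * a = (a * a) * (w * a * w⁻¹ * a) by simp only [mul_assoc],
      haa, one_mul]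
    simp only [mul_assoc]
  -- restrict to the fixed points of `B`
  set U := fixedBy' B with hU
  set ρ := restrictHom B with hρ
  set β := ρ ⟨a, haC⟩ with hβ
  set γ := ρ ⟨c, hcC⟩ with hγ
  have hcop2 : (orderOf c).Coprime 2 := hF.coprime_dvd_left (orderOf_dvd_natCard F hcF)
  have hγcop : (orderOf γ).Coprime 2 :=
    hcop2.coprime_dvd_left ((orderOf_map_dvd ρ _).trans (by rw [← Subgroup.orderOf_coe]))
  have hγ1 : γ ≠ 1 := fun h => hc1 (eq_one_of_fix_fixedBy' hV B (hA2p.to_le hBA) hcC hcop2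
    fun v hv => congrArg Subtype.val (DFunLike.congr_fun h (⟨v, hv⟩ : U)))
  have hβγ : β * γ * β⁻¹ = γ⁻¹ := by
    rw [hβ, hγ, ← map_inv, ← map_mul, ← map_mul, ← map_inv]
    exact congrArg ρ (Subtype.ext hcinv)
  have hβ2 : β * β = 1 := by
    rw [hβ, ← map_mul]
    rw [show (⟨a, haC⟩ : centralizer (B : Set (MulAut V))) * ⟨a, haC⟩ = 1 from Subtype.ext haa,
      map_one]
  have hγne : γ⁻¹ ≠ γ := by
    intro h
    apply hγ1
    have h2 : γ ^ 2 = 1 := by rw [pow_two]; nth_rewrite 1 [← h]; exact inv_mul_cancel γ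
    exact orderOf_eq_one_iff.1 (Nat.eq_one_of_dvd_coprimes hγcop dvd_rfl
      (orderOf_dvd_of_pow_eq_one h2))
  set Γ' := (Γ.subgroupOf (centralizer (B : Set (MulAut V)))).map ρ with hΓ'
  have hS3' : NoS3 Γ' := by
    intro M c' t' hc' ht' hM hcM htM hcfix htfix
    obtain ⟨c₁, hc₁, rfl⟩ := hc'
    obtain ⟨t₁, ht₁, rfl⟩ := ht'
    obtain ⟨m₀, hm₀, hm₀1, hm₀t⟩ := htfix
    have hall := hS3 (M.map U.subtype) (c₁ : MulAut V) (t₁ : MulAut V) hc₁ ht₁
      (by rw [← Nat.card_congr (M.equivMapOfInjective U.subtype Subtype.coe_injective).toEquiv, hM])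
      (by rintro _ ⟨m, hm, rfl⟩; exact ⟨_, hcM m hm, rfl⟩)
      (by rintro _ ⟨m, hm, rfl⟩; exact ⟨_, htM m hm, rfl⟩)
      (by rintro _ ⟨m, hm, rfl⟩ h; rw [hcfix m hm (Subtype.ext h), map_one])
      ⟨_, ⟨m₀, hm₀, rfl⟩, fun e => hm₀1 (Subtype.ext e), congrArg Subtype.val hm₀t⟩
    exact fun m hm => Subtype.ext (hall _ ⟨m, hm, rfl⟩)
  haveI : IsMulCommutative (zpowers γ) := inferInstance
  have hβfaith : ∀ x ∈ zpowers β, (∀ y ∈ zpowers γ, Commute x y) → x = 1 := by
    rintro _ ⟨k, rfl⟩ hxy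
    rcases Int.even_or_odd k with ⟨m, rfl⟩ | ⟨m, rfl⟩
    · show β ^ (m + m) = 1
      rw [← two_mul, zpow_mul, zpow_two, hβ2, one_zpow]
    · exfalso
      apply hγne
      have e : β ^ (2 * m + 1) = β := by rw [zpow_add_one, zpow_mul, zpow_two, hβ2, one_zpow, one_mul]
      have h := hxy γ (mem_zpowers γ)
      simp only [e] at h
      rw [← hβγ, h.eq, mul_inv_cancel_right]
  have hnorm : ∀ x ∈ zpowers β, ∀ y ∈ zpowers γ, x * y * x⁻¹ ∈ zpowers γ := by
    rintro _ ⟨k, rfl⟩ _ ⟨l, rfl⟩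
    show β ^ k * γ ^ l * (β ^ k)⁻¹ ∈ zpowers γ
    rw [← conj_zpow]
    refine zpow_mem ?_ l
    rcases Int.even_or_odd k with ⟨m, rfl⟩ | ⟨m, rfl⟩
    · rw [← two_mul, zpow_mul, zpow_two, hβ2, one_zpow, one_mul, inv_one, mul_one]
      exact mem_zpowers γ
    · rw [zpow_add_one, zpow_mul, zpow_two, hβ2, one_zpow, one_mul, hβγ]
      exact inv_mem (mem_zpowers γ)
  have hmain := no_offender_two (V := U) (p := 2) rfl (fun v => Subtype.ext (hV v)) (zpowers γ)
    (by rw [Nat.card_zpowers]; exact hγcop) Γ' (zpowers_le.2 ⟨⟨c, hcC⟩, hFΓ hcF, rfl⟩) hS3'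
    (zpowers β) (zpowers_le.2 ⟨⟨a, haC⟩, hAΓ haA, rfl⟩) inferInstance
    (IsPGroup.of_card_dvd_pow (n := 1) (by
      rw [Nat.card_zpowers]
      exact orderOf_dvd_of_pow_eq_one (by rw [pow_one, pow_two]; exact hβ2)))
    hnorm hβfaith (fun h => hγne (by
      have hb : β = 1 := mem_bot.1 (h ▸ mem_zpowers β)
      rw [← hβγ, hb, one_mul, inv_one, mul_one]))
  have hord : Nat.card (zpowers β) = 2 := by
    rw [Nat.card_zpowers]
    refine orderOf_eq_prime (by rw [pow_two, hβ2]) fun hb => hγne ?_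
    rw [← hβγ, hb, one_mul, inv_one, mul_one]
  rw [hord] at hmain
  have hidx : (fixedBy' (zpowers β)).index = (fixedBy' A).relIndex U := by
    rw [Subgroup.relIndex]
    congr 1
    ext v
    rw [mem_subgroupOf, ← hsup, mem_fixedBy'_sup_zpowers, mem_fixedBy']
    refine ⟨fun h => ⟨v.2, congrArg Subtype.val (h β (mem_zpowers β))⟩, fun h s hs => ?_⟩
    have hle : zpowers β ≤ MulAction.stabilizer (MulAut U) v :=
      zpowers_le.2 (show β v = v from Subtype.ext h.2)
    exact hle hs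
  rw [hidx] at hmain
  have hcardA : Nat.card A ≤ 2 * Nat.card B := by
    let f : Fin 2 × B → A := fun x =>
      ⟨(x.2 : MulAut V) * a ^ (x.1 : ℕ), mul_mem (hBA x.2.2) (pow_mem haA _)⟩
    have hsurj : Function.Surjective f := by
      rintro ⟨y, hy⟩
      obtain ⟨s, hs, k, hsz⟩ := mem_sup_zpowers_of_commute
        (fun t ht => hAcomm t (hBA ht) _ haA) (hsup.symm ▸ hy)
      rcases Int.even_or_odd k with ⟨m, rfl⟩ | ⟨m, rfl⟩
      · refine ⟨(0, ⟨s, hs⟩), Subtype.ext ?_⟩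
        show s * a ^ (0 : ℕ) = y
        rw [← hsz, pow_zero, ← two_mul, zpow_mul, zpow_two, haa, one_zpow]
      · refine ⟨(1, ⟨s, hs⟩), Subtype.ext ?_⟩
        show s * a ^ (1 : ℕ) = y
        rw [← hsz, pow_one, zpow_add_one, zpow_mul, zpow_two, haa, one_zpow, one_mul]
    have := Nat.card_le_card_of_surjective f hsurj
    rwa [Nat.card_prod, Nat.card_fin] at this
  have hBidx : Nat.card B ≤ U.index := by
    by_cases hBbot : B = ⊥
    · rw [hBbot, card_bot]
      exact Nat.pos_of_ne_zero index_ne_zero_of_finite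
    · have hlt : Nat.card B < Nat.card A := by
        by_contra h
        exact haB ((eq_of_le_of_card_ge hBA (not_lt.1 h)).symm ▸ haA)
      have := ih B (by omega) (hBA.trans hAΓ)
        ⟨⟨fun x y => Subtype.ext (hAcomm _ (hBA x.2) _ (hBA y.2))⟩⟩ (fun b hb => hA2 b (hBA hb))
        (fun b hb => hAF b (hBA hb)) (fun b hb => hfaith b (hBA hb)) hBbot
      exact le_trans (Nat.le_mul_of_pos_left _ (by norm_num)) this
  rw [← relIndex_mul_index (fixedBy'_anti hBA)]
  calc 2 * Nat.card A ≤ 2 * (2 * Nat.card B) := Nat.mul_le_mul le_rfl hcardA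
    _ = (2 * 2) * Nat.card B := by ring
    _ ≤ _ := Nat.mul_le_mul hmain hBidx

end Cfsg.Agent.ConjFun
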