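import Cfsg.Agent.Lib.ConjFun.Quadratic
import Cfsg.Agent.Lib.ConjFun.Degree
import Cfsg.Agent.Lib.PGroup.Critical
import Cfsg.Agent.Lib.Offender.Factorization

/-!
# Quartic elements outside `O_p(G)` when `K∞(S)` is not normal

`exists_quartic`: with failure of `p`-stability in a quotient in the constrained case.
-/

set_option autoImplicit false

namespace Cfsg.Agent.ConjFun

open scoped commutatorElement

universe u

variable {G : Type u} [Group G] [Finite G] {p : ℕ} [Fact p.Prime]

theorem exists_isCritIn (G : Type u) [Group G] [Finite G] (p : ℕ) [Fact p.Prime] :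
    ∃ A : Subgroup G, IsCritIn p A := by
  set T := Cfsg.pCore p G with hT
  obtain ⟨H, hchar, -, hcomm, hcent⟩ := PGroup.exists_critical (PCore.isPGroup_pCore (p := p) (G := G))
  haveI := hchar
  have hi := T.subtype_injective
  have hZ : (H ⊓ Subgroup.centralizer (H : Set ↥T)).map T.subtype =
      H.map T.subtype ⊓ Subgroup.centralizer ((H.map T.subtype : Subgroup G) : Set G) :=
    KInf.map_inf_centralizer hi H
  refine ⟨H.map T.subtype, ConjAct.normal_of_characteristic_of_normal, Subgroup.map_subtype_le H,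
    ?_, ?_, ?_, ?_⟩
  · refine le_trans ?_ (hZ.le.trans inf_le_right)
    rw [← Subgroup.map_commutator]
    exact Subgroup.map_mono ((Subgroup.commutator_mono le_rfl le_top).trans hcomm)
  · rw [← hZ, Subgroup.commutator_comm]
    calc ⁅H.map T.subtype, Cfsg.pCore p G⁆ = ⁅H, (⊤ : Subgroup ↥T)⁆.map T.subtype := by
          rw [Subgroup.map_commutator, ← MonoidHom.range_eq_map, Subgroup.range_subtype]
      _ ≤ _ := Subgroup.map_mono hcomm
  · refine le_antisymm ?_ (inf_le_inf_right _ (Subgroup.map_subtype_le H))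
    rintro x ⟨hxT, hxC⟩
    refine ⟨⟨⟨x, hxT⟩, hcent ?_, rfl⟩, hxC⟩
    exact fun h hh => Subtype.ext (hxC _ ⟨h, hh, rfl⟩)
  · intro φ hφ hfix
    exact PGroup.aut_eq_one_of_centralizer_le PCore.isPGroup_pCore H hcent φ hφ
      fun h hh => hfix h ⟨h, hh, rfl⟩

/-- On a `p`-chief factor the image of the group has trivial `O_p`. -/
theorem pCore_quotient_centralizer_chief {U V : Subgroup G} (hUV : Cfsg.IsChiefFactor U V)
    [V.Normal] [hUn : (U.map (QuotientGroup.mk' V)).Normal] (hU : IsPGroup p ↥U) :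
    Cfsg.pCore p ((G ⧸ V) ⧸ Subgroup.centralizer
      ((U.map (QuotientGroup.mk' V) : Subgroup (G ⧸ V)) : Set (G ⧸ V))) = ⊥ := by
  set π := QuotientGroup.mk' V with hπ
  have hπs : Function.Surjective π := QuotientGroup.mk'_surjective V
  refine Offender.pCore_quotient_centralizer_eq_bot ?_
  set J : Subgroup (G ⧸ V) := ⨆ S : Sylow p (G ⧸ V),
    U.map π ⊓ Subgroup.centralizer ((S : Subgroup (G ⧸ V)) : Set (G ⧸ V)) with hJ
  have hJn : J.Normal := by
    refine ⟨fun x hx g => ?_⟩
    have h1 : J.map (MulAut.conj g).toMonoidHom ≤ J := by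
      rw [hJ, Subgroup.map_iSup]
      refine iSup_le fun S => ?_
      rw [conjMap_inf, conjMap_centralizer, conjMap_eq_self (H := U.map π)
        ((Subgroup.normalizer_eq_top (H := U.map π)).ge (Subgroup.mem_top g))]
      exact le_iSup (fun S : Sylow p (G ⧸ V) =>
        U.map π ⊓ Subgroup.centralizer ((S : Subgroup (G ⧸ V)) : Set (G ⧸ V))) (g • S)
    exact h1 ⟨x, hx, rfl⟩
  have hcomap : (U.map π).comap π = U := by
    rw [Subgroup.comap_map_eq, hπ, QuotientGroup.ker_mk', sup_eq_left.mpr hUV.1.le]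
  have hle : J.comap π ≤ U :=
    (Subgroup.comap_mono (iSup_le fun S => inf_le_left)).trans hcomap.le
  have hge : V ≤ J.comap π := by
    intro v hv
    rw [Subgroup.mem_comap, show π v = 1 from (QuotientGroup.eq_one_iff v).mpr hv]
    exact one_mem J
  rcases hUV.2.2.2 _ (hJn.comap π) hge hle with h | h
  · exfalso
    obtain ⟨S⟩ : Nonempty (Sylow p (G ⧸ V)) := Sylow.nonempty
    have hUp : IsPGroup p ↥(U.map π) := hU.map π
    have hUS : U.map π ≤ (S : Subgroup (G ⧸ V)) :=
      (PCore.le_pCore hUp).trans (PCore.pCore_le_sylow S)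
    have hne : (U.map π).subgroupOf (S : Subgroup (G ⧸ V)) ≠ ⊥ := by
      rw [Ne, Subgroup.subgroupOf_eq_bot, disjoint_iff, inf_eq_left.mpr hUS,
        Subgroup.map_eq_bot_iff, hπ, QuotientGroup.ker_mk']
      exact hUV.1.not_ge
    haveI : ((U.map π).subgroupOf (S : Subgroup (G ⧸ V))).Normal := Subgroup.Normal.subgroupOf hUn _
    obtain ⟨z, hz, hzc, hzo⟩ := PGroup.exists_orderOf_eq_mem_center S.2 _ hne
    have hzJ : (z : G ⧸ V) ∈ J := Subgroup.mem_iSup_of_mem S ⟨hz, fun s hs =>
      congrArg Subtype.val (Subgroup.mem_center_iff.mp hzc ⟨s, hs⟩)⟩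
    obtain ⟨y, hy⟩ := hπs (z : G ⧸ V)
    have hyV : y ∈ V := h ▸ (Subgroup.mem_comap.mpr (hy ▸ hzJ))
    rw [show π y = 1 from (QuotientGroup.eq_one_iff y).mpr hyV] at hy
    rw [show z = 1 from Subtype.ext hy.symm, orderOf_one] at hzo
    exact (Fact.out (p := p.Prime)).ne_one hzo.symm
  · refine le_trans (Subgroup.map_mono h.ge) ?_
    exact Subgroup.map_comap_le π J

/-- A quadratic nontrivial chief factor refutes `p`-stability of a quotient. -/
theorem not_isNormalizerPStable_quotient {A : Subgroup G} {g : G} (hA : IsPGroup p ↥A)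
    (h : HasQuadFactor A g) : ∃ (N : Subgroup G) (_ : N.Normal), ¬ Cfsg.IsNormalizerPStable p (G ⧸ N) := by
  obtain ⟨U, V, hUV, hUA, hquad, hne⟩ := h
  haveI hVn := hUV.2.2.1
  refine ⟨V, hVn, fun hst => hne ?_⟩
  set π := QuotientGroup.mk' V with hπ
  set P := U.map π with hP
  haveI hPn : P.Normal := Subgroup.Normal.map hUV.2.1 _ (QuotientGroup.mk'_surjective V)
  have hg : π g ∈ Subgroup.normalizer (P : Set (G ⧸ V)) :=
    (Subgroup.normalizer_eq_top (H := P)).ge (Subgroup.mem_top _)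
  have hmem := hst P ((hA.to_le hUA).map π) (π g) hg (by
    rw [← MonoidHom.map_zpowers, hP, ← Subgroup.map_commutator, ← Subgroup.map_commutator,
      Subgroup.map_eq_bot_iff, hπ, QuotientGroup.ker_mk']
    exact hquad)
  set C := Subgroup.centralizer (P : Set (G ⧸ V)) with hC
  let f := QuotientGroup.lift (C.subgroupOf (Subgroup.normalizer (P : Set (G ⧸ V))))
    ((QuotientGroup.mk' C).comp (Subgroup.normalizer (P : Set (G ⧸ V))).subtype)
    fun x hx => (QuotientGroup.eq_one_iff _).mpr hx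
  have hfs : Function.Surjective f := by
    intro y
    obtain ⟨x, rfl⟩ := QuotientGroup.mk'_surjective C y
    exact ⟨QuotientGroup.mk ⟨x, (Subgroup.normalizer_eq_top (H := P)).ge (Subgroup.mem_top _)⟩, rfl⟩
  have h1 : QuotientGroup.mk' C (π g) ∈ Cfsg.pCore p ((G ⧸ V) ⧸ C) :=
    PCore.map_pCore_le f hfs ⟨_, hmem, rfl⟩
  have h2 : π g ∈ C := by
    rw [pCore_quotient_centralizer_chief hUV (hA.to_le hUA), Subgroup.mem_bot] at h1
    exact (QuotientGroup.eq_one_iff _).mp h1
  rw [← le_kerOn_iff (hV := hVn), Subgroup.zpowers_le]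
  intro u hu
  rw [← QuotientGroup.eq_one_iff]
  show π ⁅u, g⁆ = 1
  rw [map_commutatorElement, commutatorElement_eq_one_iff_mul_comm]
  exact h2 (π u) ⟨u, hu, rfl⟩

/-- The quartic element. -/
theorem exists_quartic (S : Sylow p G)
    (hK : ¬ (Cfsg.inducedFunctor Cfsg.kInfLower (S : Subgroup G)).Normal ∨
      ¬ (Cfsg.inducedFunctor Cfsg.kInfUpper (S : Subgroup G)).Normal) :
    ∃ g, g ∈ (S : Subgroup G) ∧ g ∉ Cfsg.pCore p G ∧
      (∀ U V : Subgroup G, Cfsg.IsChiefFactor U V → U ≤ Cfsg.pCore p G →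
        Cfsg.iterCommutator U (Subgroup.zpowers g) 4 ≤ V) ∧
      ⁅⁅Cfsg.pCore p G ⊓ Subgroup.centralizer ((Cfsg.pCore p G : Subgroup G) : Set G),
        Subgroup.zpowers g⁆, Subgroup.zpowers g⁆ = ⊥ ∧
      (Subgroup.centralizer ((Cfsg.pCore p G : Subgroup G) : Set G) ≤ Cfsg.pCore p G →
        ∃ A : Subgroup G, IsPGroup p ↥A ∧ HasQuadFactor A g) := by
  obtain ⟨A, hA⟩ := exists_isCritIn G p
  haveI := hA.normal
  obtain ⟨g, hgS, hgT, h3, h2, -, h1⟩ := exists_witness hA S hK
  set Z := A ⊓ Subgroup.centralizer (A : Set G) with hZ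
  have hAp : IsPGroup p ↥A := PCore.isPGroup_pCore.to_le hA.le
  refine ⟨g, hgS, hgT, fun U V hUV hU => ?_, le_bot_iff.mp (le_trans ?_ h2.le),
    fun hC => ⟨A, hAp, h1 hC⟩⟩
  · refine iterCommutator_le_of_critical PCore.isPGroup_pCore hA.le hA.comm
      (hA.cent.le.trans inf_le_left) g 3 2 (by norm_num) (by norm_num) (fun U' V' h' hU' => ?_)
      (fun U' V' h' hU' => ?_) U V hUV hU
    · haveI := h'.2.1
      haveI := h'.2.2.1
      rcases h'.2.2.2 ((U' ⊓ Z) ⊔ V') inferInstance le_sup_right (sup_le inf_le_left h'.1.le) with e | e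
      · refine le_trans (le_inf ?_ ((iterCommutator_mono hU' 3).trans h3)) (le_sup_left.trans e.le)
        exact (Subgroup.commutator_mono (commutator_commutator_le_left U' _ _) le_rfl).trans
          (Subgroup.commutator_le_left U' _)
      · refine (iterCommutator_mono e.ge 3).trans ((iterCommutator_sup_le 3).trans (sup_le ?_ le_rfl))
        refine iterCommutator_le_of_le (show (2 : ℕ) ≤ 3 by norm_num) ?_
        refine le_trans ?_ (h2.le.trans bot_le)
        exact Subgroup.commutator_mono (Subgroup.commutator_mono inf_le_right le_rfl) le_rfl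
    · haveI := h'.2.2.1
      exact ((iterCommutator_mono hU' 2).trans h2.le).trans bot_le
  · refine Subgroup.commutator_mono (Subgroup.commutator_mono ?_ le_rfl) le_rfl
    exact (inf_le_inf_left _ (Subgroup.centralizer_le hA.le)).trans hA.cent.le

end Cfsg.Agent.ConjFun
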