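import Cfsg.Agent.Lib.ConjFun.Chief
import Cfsg.Agent.Lib.ConjFun.OffenderClassTwo
import Cfsg.Agent.Lib.PComplement.ThompsonTwo
import Cfsg.Agent.Lib.Offender.Thompson
import Cfsg.Agent.Lib.PCore.HallHigman

/-!
# Solvable S₄-free groups with a Sylow 2-subgroup of class at most 2

`normalizer_sup_oddCore_eq_top`: `G = N(J(S)) O(G)`.
-/

set_option autoImplicit false

namespace Cfsg.Agent.ConjFun

open Subgroup
open scoped commutatorElement

universe u

/-- In a solvable group with `O_2 = 1`, the odd core contains its centralizer. -/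
theorem centralizer_oddCore_le {X : Type u} [Group X] [Finite X] [Group.IsSolvable X]
    (h : Cfsg.pCore 2 X = ⊥) :
    centralizer (Cfsg.pPrimeCore 2 X : Set X) ≤ Cfsg.pPrimeCore 2 X := by
  haveI : Fact (Nat.Prime 2) := ⟨Nat.prime_two⟩
  set O := Cfsg.pPrimeCore 2 X with hO
  set C := centralizer (O : Set X) with hC
  set π := QuotientGroup.mk' O with hπ
  have hπs : Function.Surjective π := QuotientGroup.mk'_surjective O
  haveI hCn : C.Normal := normal_centralizer
  haveI : (C.map π).Normal := hCn.map π hπs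
  by_contra hle
  have hne : C.map π ≠ ⊥ := by
    rw [Ne, Subgroup.map_eq_bot_iff, QuotientGroup.ker_mk']; exact hle
  haveI := (nontrivial_iff_ne_bot _).mpr hne
  obtain ⟨r, M, hr, hMn, hM, hMr⟩ := Coprime.exists_normal_isPGroup (G := ↥(C.map π))
  haveI := Fact.mk hr
  have hr2 : r = 2 := by
    by_contra hne2
    apply hM
    have h1 : (Cfsg.pCore r ↥(C.map π)).map (C.map π).subtype ≤ Cfsg.pPrimeCore 2 (X ⧸ O) := by
      refine PCore.le_pPrimeCore ?_
      obtain ⟨k, hk⟩ := (PCore.isPGroup_pCore (p := r) (G := ↥(C.map π))).exists_card_eq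
      rw [card_map_of_injective (Subgroup.subtype_injective _), hk]
      exact ((Nat.coprime_primes hr Nat.prime_two).2 hne2).pow_left k
    replace h1 := h1.trans_eq (PCore.pPrimeCore_quotient_self_eq_bot (p := 2) (G := X))
    rw [le_bot_iff, Subgroup.map_eq_bot_iff_of_injective _ (Subgroup.subtype_injective _)] at h1
    exact le_bot_iff.1 ((PCore.le_pCore (hN := hMn) hMr).trans h1.le)
  subst hr2
  set K' := (Cfsg.pCore 2 ↥(C.map π)).map (C.map π).subtype with hK'
  haveI hK'n : K'.Normal := by rw [hK']; infer_instance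
  haveI := hK'n.comap π
  set K := K'.comap π ⊓ C with hK
  have hKK' : K.map π = K' := by
    refine le_antisymm ((map_mono inf_le_left).trans (map_comap_le _ _)) fun y hy => ?_
    obtain ⟨c, hc, rfl⟩ := (map_subtype_le _ : K' ≤ C.map π) hy
    exact ⟨c, ⟨hy, hc⟩, rfl⟩
  -- a complement of `O ∩ K` in `K` is a normal 2-subgroup
  set Z := O.subgroupOf K with hZ
  have hind : IsPGroup 2 ↥K' := (PCore.isPGroup_pCore).map _
  obtain ⟨j, hj⟩ := hind.exists_card_eq
  have hidx : Z.index = 2 ^ j := by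
    rw [← hj, ← hKK', hZ]
    exact PCore.relIndex_eq_card_map_mk' O K
  have hZcop : (Nat.card Z).Coprime 2 :=
    PCore.coprime_card_pPrimeCore.coprime_dvd_left (Subgroup.card_comap_dvd_of_injective O K.subtype
      K.subtype_injective)
  have hco : (Nat.card Z).Coprime Z.index := by
    rw [hidx]
    exact hZcop.pow_right j
  obtain ⟨L, hL⟩ := exists_right_complement'_of_coprime hco
  have hcen : Z ≤ center K := fun z hz => mem_center_iff.mpr fun g =>
    Subtype.ext ((mem_centralizer_iff.mp (inf_le_right (a := K'.comap π) g.2)) (z : X) hz).symm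
  have hLn : L.Normal := by
    rw [← normalizer_eq_top_iff, eq_top_iff, ← hL.sup_eq_top]
    refine sup_le (fun z hz => ?_) le_normalizer
    refine mem_normalizer_iff.mpr fun y => ?_
    rw [← mem_center_iff.mp (hcen hz) y, mul_inv_cancel_right]
  have hLp : IsPGroup 2 L := IsPGroup.of_card (n := j) (by rw [← hL.symm.index_eq_card, hidx])
  have hL0 : L = ⊥ := by
    have := PCore.le_pCore (hN := hLn) hLp
    rwa [PCore.pCore_eq_bot_of_normal K h, le_bot_iff] at this
  have hKO : K ≤ O := by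
    rw [← subgroupOf_eq_top, ← hZ, ← hL.sup_eq_top, hL0, sup_bot_eq]
  apply hM
  have h2 : K' = ⊥ := by
    rw [← hKK', Subgroup.map_eq_bot_iff, QuotientGroup.ker_mk']
    exact hKO
  rw [hK', Subgroup.map_eq_bot_iff_of_injective _ (Subgroup.subtype_injective _)] at h2
  exact le_bot_iff.1 ((PCore.le_pCore (hN := hMn) hMr).trans h2.le)

variable {G : Type u} [Group G] [Finite G] [Group.IsSolvable G]

/-- With `O(G) = 1` the elementary abelian subgroups of largest order lie in `O_2(G)`. -/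
theorem thompson_le_pCore (hS4 : ¬ Cfsg.Involves (Equiv.Perm (Fin 4)) G) (S : Sylow 2 G)
    (hcl : ∀ x ∈ (S : Subgroup G), ∀ y ∈ (S : Subgroup G), ∀ z ∈ (S : Subgroup G),
      ⁅x, y⁆ * z = z * ⁅x, y⁆)
    (hO : Cfsg.pPrimeCore 2 G = ⊥) {A : Subgroup G} (hAS : A ≤ (S : Subgroup G))
    (hA : Cfsg.IsElementaryAbelian 2 A)
    (hmax : ∀ B : Subgroup G, B ≤ (S : Subgroup G) → Cfsg.IsElementaryAbelian 2 B →
      Nat.card B ≤ Nat.card A) : A ≤ Cfsg.pCore 2 G := by
  classical
  haveI : Fact (Nat.Prime 2) := ⟨Nat.prime_two⟩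
  set Q := Cfsg.pCore 2 G with hQdef
  have hQS : Q ≤ (S : Subgroup G) := PCore.pCore_le_sylow S
  have hQp : IsPGroup 2 Q := PCore.isPGroup_pCore
  haveI hQn : Q.Normal := PCore.pCore_normal
  have hCQ : centralizer (Q : Set G) ≤ Q := PCore.centralizer_pCore_le_of_isSolvable hO
  set ZQ := Q ⊓ centralizer (Q : Set G) with hZQ
  haveI hZn : ZQ.Normal := inferInstance
  have hZc : IsMulCommutative ZQ := PGroup.isMulCommutative_of_forall fun a ha b hb => (ha.2 b hb.1).symm
  set L := kerOn Q ZQ hZn with hLdef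
  haveI hLn : L.Normal := kerOn_normal hQn hZn
  have hSL : (S : Subgroup G) ≤ L := by
    intro s hs q hq
    exact ⟨commutator_le_left Q _ (commutator_mem_commutator hq hs),
      fun q' hq' => (hcl q (hQS hq) s hs q' (hQS hq')).symm⟩
  let V : Subgroup G :=
    { carrier := {x | x ∈ ZQ ∧ x ^ 2 = 1}
      one_mem' := ⟨one_mem _, one_pow 2⟩
      mul_mem' := fun {x y} hx hy => ⟨mul_mem hx.1 hy.1, by
        rw [(show Commute x y from congrArg Subtype.val
          (hZc.is_comm.comm ⟨x, hx.1⟩ ⟨y, hy.1⟩)).mul_pow, hx.2, hy.2, one_mul]⟩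
      inv_mem' := fun {x} hx => ⟨inv_mem hx.1, by rw [inv_pow, hx.2, inv_one]⟩ }
  haveI hVn : V.Normal := ⟨fun x hx g => ⟨hZn.conj_mem x hx.1 g,
    by rw [conj_pow, hx.2, mul_one, mul_inv_cancel]⟩⟩
  letI : CommGroup V := { (inferInstance : Group V) with
    mul_comm := fun x y => Subtype.ext (congrArg Subtype.val
      (hZc.is_comm.comm ⟨x, x.2.1⟩ ⟨y, y.2.1⟩) :) }
  let φ : G →* MulAut V := MulAut.conjNormal (H := V)
  have hφ : ∀ g, φ g = 1 ↔ g ∈ centralizer (V : Set G) := by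
    intro g
    constructor
    · intro hg x hx
      have h : g * x * g⁻¹ = x := congrArg Subtype.val (DFunLike.congr_fun hg (⟨x, hx⟩ : V))
      exact (mul_inv_eq_iff_eq_mul.1 h).symm
    · intro hg
      ext x
      show g * (x : G) * g⁻¹ = x
      rw [← hg x x.2, mul_inv_cancel_right]
  -- the kernel in `L` lies in `Q`
  have hker : L ⊓ centralizer (V : Set G) ≤ Q := by
    refine PCore.le_pCore fun x => ?_
    obtain ⟨x₁, x₂, hxe, hx₁, hx₂, m, hm⟩ := exists_decomp (p := 2) (x : G)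
    have hx₂K : x₂ ∈ L ⊓ centralizer (V : Set G) := by
      rw [show x₂ = x₁⁻¹ * x by rw [hxe, inv_mul_cancel_left], hm]
      exact mul_mem (inv_mem (pow_mem x.2 m)) x.2
    have hfixZ : ∀ z ∈ ZQ, Commute z x₂ :=
      PComplement.commute_of_omega_abelian ZQ hZc (hQp.to_le inf_le_left) hx₂
        (fun z hz => hZn.conj_mem z hz x₂) (fun z hz hz2 => hx₂K.2 z ⟨hz, hz2⟩)
    have hfixQ : x₂ ∈ centralizer (Q : Set G) := by
      intro q hq
      have hz : ⁅x₂, q⁆ ∈ ZQ := by
        rw [← commutatorElement_inv]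
        exact inv_mem (hx₂K.1 q hq)
      obtain ⟨k, hk⟩ := hQp ⟨⁅x₂, q⁆, hz.1⟩
      refine (Coprime.commute_of_translate (z := ⁅x₂, q⁆) (by simp [commutatorElement_def, mul_assoc])
        (hfixZ _ hz).symm ?_).eq.symm
      exact (hx₂.pow_right k).coprime_dvd_right
        (orderOf_dvd_of_pow_eq_one (congrArg Subtype.val hk : ⁅x₂, q⁆ ^ 2 ^ k = 1))
    obtain ⟨k, hk⟩ := IsPGroup.iff_orderOf.mp hQp ⟨x₂, hCQ hfixQ⟩
    rw [Subgroup.orderOf_mk] at hk
    have h1 : x₂ = 1 := orderOf_eq_one_iff.mp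
      (Nat.eq_one_of_dvd_coprimes (hx₂.pow_right k) dvd_rfl (hk ▸ dvd_rfl))
    obtain ⟨j, hj⟩ := hx₁ ⟨x₁, mem_zpowers x₁⟩
    refine ⟨j, Subtype.ext ?_⟩
    rw [Subgroup.coe_pow, hxe, h1, mul_one]
    exact congrArg Subtype.val hj
  -- the image of `L`
  set ψ : L →* MulAut V := φ.comp L.subtype with hψ
  haveI : Group.IsSolvable ↥ψ.range := by
    haveI : Group.IsSolvable ↥L := inferInstance
    exact Group.isSolvable_of_surjective ψ.rangeRestrict_surjective
  have hXcore : Cfsg.pCore 2 ↥ψ.range = ⊥ := by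
    have hkerp : IsPGroup 2 ψ.rangeRestrict.ker := by
      rw [MonoidHom.ker_rangeRestrict]
      intro x
      obtain ⟨k, hk⟩ := hQp ⟨((x : L) : G), hker ⟨(x : L).2, (hφ _).1 x.2⟩⟩
      refine ⟨k, Subtype.ext (Subtype.ext ?_)⟩
      have h := congrArg Subtype.val hk
      simpa using h
    rw [← PCore.map_pCore_of_ker ψ.rangeRestrict ψ.rangeRestrict_surjective hkerp,
      Subgroup.map_eq_bot_iff, MonoidHom.ker_rangeRestrict]
    intro x hx
    have h1 : (x : G) ∈ Q := by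
      have h2 : (x : G) ∈ (Cfsg.pCore 2 ↥L).map L.subtype := ⟨x, hx, rfl⟩
      exact PCore.le_pCore ((PCore.isPGroup_pCore (p := 2)).map L.subtype) h2
    exact (hφ _).2 fun v hv => (hv.1.2 _ h1).symm
  set O := Cfsg.pPrimeCore 2 ↥ψ.range with hOdef
  set F := O.map ψ.range.subtype with hF
  have hS3 : PComplement.NoS3 ψ.range := by
    intro M c t hc ht hM hcM htM hcfix htfix
    by_contra htne
    obtain ⟨⟨c, _⟩, rfl⟩ := hc
    obtain ⟨⟨t, _⟩, rfl⟩ := ht
    refine hS4 (PComplement.involves_sfour (M.map V.subtype) ?_ (c := c) (t := t) ?_ ?_ ?_ ?_ ?_)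
    · rw [← Nat.card_congr (M.equivMapOfInjective V.subtype Subtype.coe_injective).toEquiv, hM]
    any_goals
      rw [mem_normalizer_iff_map_conj_eq]
      refine eq_of_le_of_card_ge ?_ (le_of_eq
        (Nat.card_congr (((M.map V.subtype).equivMapOfInjective _
          (MulEquiv.injective _)).toEquiv)))
      rintro _ ⟨_, ⟨m, hm, rfl⟩, rfl⟩
    · exact ⟨_, hcM m hm, rfl⟩
    · exact ⟨_, htM m hm, rfl⟩
    · rintro _ ⟨m, hm, rfl⟩ hcomm
      rw [hcfix m hm (Subtype.ext (mul_inv_eq_iff_eq_mul.2 hcomm.eq)), map_one]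
    · obtain ⟨m, hm, hm1, hfix⟩ := htfix
      exact ⟨_, ⟨m, hm, rfl⟩, fun e => hm1 (Subtype.ext e),
        mul_inv_eq_iff_eq_mul.1 (congrArg Subtype.val hfix)⟩
    · intro hall
      exact htne fun m hm => Subtype.ext (mul_inv_eq_iff_eq_mul.2 (hall _ ⟨m, hm, rfl⟩).eq)
  set Ab := A.map φ with hAb
  have hAψ : Ab ≤ ψ.range := by
    rintro _ ⟨a, ha, rfl⟩
    exact ⟨⟨a, hSL (hAS ha)⟩, rfl⟩
  by_contra hne
  have hAbne : Ab ≠ ⊥ := by
    intro hbot
    refine hne fun a ha => hker ⟨hSL (hAS ha), (hφ a).1 ?_⟩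
    rw [← Subgroup.mem_bot, ← hbot]
    exact ⟨a, ha, rfl⟩
  have hbound := no_offender_two_of_odd (fun v => Subtype.ext v.2.2) F
    (by rw [hF, card_map_of_injective ψ.range.subtype_injective]; exact PCore.coprime_card_pPrimeCore)
    ψ.range (Subgroup.map_subtype_le _) hS3 Ab hAψ
    (PGroup.isMulCommutative_of_forall (by
      rintro _ ⟨a, ha, rfl⟩ _ ⟨b, hb, rfl⟩
      rw [← map_mul, ← map_mul]
      exact congrArg φ (congrArg Subtype.val (hA.1.is_comm.comm ⟨a, ha⟩ ⟨b, hb⟩))))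
    (by
      rintro _ ⟨a, ha, rfl⟩
      rw [← map_mul, ← pow_two, hA.2 a ha, map_one])
    (by
      rintro x hx _ ⟨w, hw, rfl⟩
      exact ⟨⟨x, hAψ hx⟩ * w * ⟨x, hAψ hx⟩⁻¹,
        (inferInstance : O.Normal).conj_mem w hw _, rfl⟩)
    (by
      rintro _ ⟨a, ha, rfl⟩ hcomm
      have h1 : (⟨φ a, hAψ ⟨a, ha, rfl⟩⟩ : ↥ψ.range) ∈ O := by
        refine centralizer_oddCore_le hXcore fun w hw => Subtype.ext ?_
        exact (hcomm w ⟨w, hw, rfl⟩).eq.symm
      have h2 : orderOf (φ a) ∣ 2 := orderOf_dvd_of_pow_eq_one (by rw [← map_pow, hA.2 a ha, map_one])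
      have h3 : (orderOf (φ a)).Coprime 2 := by
        have h4 := Subgroup.orderOf_dvd_natCard O h1
        rw [Subgroup.orderOf_mk] at h4
        exact PCore.coprime_card_pPrimeCore.coprime_dvd_left h4
      exact orderOf_eq_one_iff.1 (Nat.eq_one_of_dvd_coprimes h3 dvd_rfl h2))
    hAbne
  -- compare `A` with `(A ∩ C(V)) V`
  set A₀ := A ⊓ centralizer (V : Set G) with hA₀
  have hVS : V ≤ (S : Subgroup G) := fun x hx => hQS hx.1.1
  have hB : Cfsg.IsElementaryAbelian 2 (A₀ ⊔ V) :=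
    PGroup.isElementaryAbelian_sup (PGroup.isElementaryAbelian_mono hA inf_le_left)
      ⟨PGroup.isMulCommutative_of_forall fun x hx y hy =>
        congrArg Subtype.val (hZc.is_comm.comm ⟨x, hx.1⟩ ⟨y, hy.1⟩), fun x hx => hx.2⟩
      fun a ha v hv => (ha.2 v hv).symm
  have h1 := hmax _ (sup_le (inf_le_left.trans hAS) hVS) hB
  have hVA : V ≤ normalizer (A₀ : Set G) := fun x hx => centralizer_le_normalizer _
    (mem_centralizer_iff.2 fun y hy => (hy.2 x hx).symm)
  have h2 : Nat.card ↥(V ⊔ A₀) = Nat.card A₀ * A₀.relIndex V := by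
    rw [← Coprime.relIndex_sup_right_of_le_normalizer hVA, ← card_mul_index (A₀.subgroupOf (V ⊔ A₀)),
      Coprime.card_subgroupOf le_sup_right]
    rfl
  have h3 : (PComplement.fixedBy' Ab).index ≤ A₀.relIndex V := by
    refine Nat.le_of_dvd (Nat.pos_of_ne_zero index_ne_zero_of_finite) (index_dvd_of_le ?_)
    rintro ⟨x, hx⟩ hxA _ ⟨a, ha, rfl⟩
    apply Subtype.ext
    show a * x * a⁻¹ = x
    have hax : a * x = x * a :=
      congrArg Subtype.val (hA.1.is_comm.comm ⟨a, ha⟩ ⟨x, (mem_inf.1 hxA).1⟩)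
    rw [hax, mul_inv_cancel_right]
  have h4 : Nat.card A = Nat.card A₀ * Nat.card Ab := by
    have e : (φ.comp A.subtype).ker = A₀.subgroupOf A := by
      ext a
      rw [MonoidHom.mem_ker, mem_subgroupOf, hA₀, mem_inf]
      exact ⟨fun ha => ⟨a.2, (hφ _).1 ha⟩, fun ha => (hφ _).2 ha.2⟩
    rw [← card_mul_index (φ.comp A.subtype).ker, index_ker, e,
      Coprime.card_subgroupOf inf_le_left, ← MonoidHom.map_range, range_subtype]
  rw [sup_comm, h2, h4] at h1
  have h5 := Nat.le_of_mul_le_mul_left h1 Nat.card_pos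
  have h6 : 2 * Nat.card Ab ≤ Nat.card Ab := hbound.trans (h3.trans h5)
  have := Nat.card_pos (α := Ab)
  omega

theorem isCharPFunctor_thompson :
    Cfsg.IsCharPFunctor.{u} 2 (fun (Q : Type u) [Group Q] => Cfsg.thompsonSubgroup 2 Q) := by
  haveI : Fact (Nat.Prime 2) := ⟨Nat.prime_two⟩
  refine ⟨fun Q _ _ hQ _ => Offender.thompsonSubgroup_ne_bot ?_,
    fun Q R _ _ _ _ e => Offender.map_thompsonSubgroup e⟩
  obtain ⟨k, hk⟩ := hQ.exists_card_eq
  rcases k with _ | k
  · rw [pow_zero] at hk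
    exact absurd hk Finite.one_lt_card.ne'
  · exact hk ▸ dvd_pow_self 2 k.succ_ne_zero

/-- With `O(G) = 1` the Thompson subgroup of a Sylow 2-subgroup is normal. -/
theorem thompsonSubgroupOf_normal (hS4 : ¬ Cfsg.Involves (Equiv.Perm (Fin 4)) G) (S : Sylow 2 G)
    (hcl : ∀ x ∈ (S : Subgroup G), ∀ y ∈ (S : Subgroup G), ∀ z ∈ (S : Subgroup G),
      ⁅x, y⁆ * z = z * ⁅x, y⁆)
    (hO : Cfsg.pPrimeCore 2 G = ⊥) :
    (Cfsg.thompsonSubgroupOf 2 (S : Subgroup G)).Normal := by
  haveI : Fact (Nat.Prime 2) := ⟨Nat.prime_two⟩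
  set Q := Cfsg.pCore 2 G with hQdef
  have hQS : Q ≤ (S : Subgroup G) := PCore.pCore_le_sylow S
  have hJ : Cfsg.thompsonSubgroup 2 ↥(S : Subgroup G) ≤ Q.subgroupOf (S : Subgroup G) := by
    rw [Offender.thompsonSubgroup_le_iff]
    intro A hA x hx
    refine thompson_le_pCore hS4 S hcl hO (Subgroup.map_subtype_le A)
      (PGroup.isElementaryAbelian_map hA.1 _) (fun B hBS hB => ?_) ⟨x, hx, rfl⟩
    have h := hA.2 _ (PGroup.isElementaryAbelian_comap hB (S : Subgroup G).subtype_injective)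
    rw [card_map_of_injective (Subgroup.subtype_injective _)]
    exact (Coprime.card_subgroupOf hBS).ge.trans h
  have h1 := Offender.thompsonSubgroupOf_eq_thompsonSubgroup hJ
  set f := Subgroup.inclusion hQS with hf
  have hrange : (⊤ : Subgroup ↥Q).map f = Q.subgroupOf (S : Subgroup G) := by
    ext x
    exact ⟨fun ⟨y, _, hy⟩ => hy ▸ y.2, fun hx => ⟨⟨x, hx⟩, mem_top _, rfl⟩⟩
  have h2 : Cfsg.thompsonSubgroupOf 2 (Q.subgroupOf (S : Subgroup G)) =
      (Cfsg.thompsonSubgroup 2 ↥Q).map f := by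
    have h := inducedFunctor_map (isCharPFunctor_thompson.{u}) f ⊤
      ((PCore.isPGroup_pCore (p := 2) (G := G)).to_subgroup ⊤) (Subgroup.inclusion_injective hQS).injOn
    rw [hrange] at h
    refine h.trans ?_
    congr 1
    exact Offender.map_thompsonSubgroup Subgroup.topEquiv
  have h3 : Cfsg.thompsonSubgroupOf 2 (S : Subgroup G) =
      (Cfsg.thompsonSubgroup 2 ↥Q).map Q.subtype := by
    rw [Cfsg.thompsonSubgroupOf, ← h1, h2, Subgroup.map_map]
    rfl
  rw [h3]
  haveI := Offender.thompsonSubgroup_characteristic (p := 2) (G := ↥Q)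
  exact ConjAct.normal_of_characteristic_of_normal

/-- `G = N(J(S)) O(G)`. -/
theorem normalizer_sup_oddCore_eq_top (hS4 : ¬ Cfsg.Involves (Equiv.Perm (Fin 4)) G) (S : Sylow 2 G)
    (hcl : Subgroup.lowerCentralSeries (S : Subgroup G) 2 = ⊥) :
    Subgroup.normalizer ((Cfsg.thompsonSubgroupOf 2 (S : Subgroup G)) : Set G) ⊔
      Cfsg.pPrimeCore 2 G = ⊤ := by
  haveI : Fact (Nat.Prime 2) := ⟨Nat.prime_two⟩
  set O := Cfsg.pPrimeCore 2 G with hO
  set π := QuotientGroup.mk' O with hπ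
  have hπs : Function.Surjective π := QuotientGroup.mk'_surjective O
  haveI : Group.IsSolvable (G ⧸ O) := Group.isSolvable_of_surjective hπs
  set J := Cfsg.thompsonSubgroupOf 2 (S : Subgroup G) with hJ
  have hcl' : ∀ x ∈ (S : Subgroup G), ∀ y ∈ (S : Subgroup G), ∀ z ∈ (S : Subgroup G),
      ⁅x, y⁆ * z = z * ⁅x, y⁆ := fun x hx y hy z hz => by
    rw [← commutatorElement_eq_one_iff_mul_comm, ← Subgroup.mem_bot, ← hcl]
    exact commutator_mem_commutator (commutator_mem_commutator hx hy) hz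
  have hinj : Set.InjOn π ((S : Subgroup G) : Set G) := by
    intro a ha b hb hab
    refine inv_mul_eq_one.1 (Subgroup.mem_bot.1 ?_)
    rw [← (disjoint_iff.1 (PCore.disjoint_of_isPGroup_of_coprime S.2 PCore.coprime_card_pPrimeCore))]
    exact Subgroup.mem_inf.2 ⟨mul_mem (inv_mem ha) hb, QuotientGroup.eq.1 hab⟩
  set S' : Sylow 2 (G ⧸ O) := S.mapSurjective hπs with hS'
  have hS'c : (S' : Subgroup (G ⧸ O)) = (S : Subgroup G).map π := Sylow.coe_mapSurjective _ _
  have hn : (Cfsg.thompsonSubgroupOf 2 (S' : Subgroup (G ⧸ O))).Normal := by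
    refine thompsonSubgroupOf_normal (fun h => hS4 (PComplement.involves_of_quotient h)) S' ?_
      (PCore.pPrimeCore_quotient_self_eq_bot)
    intro x hx y hy z hz
    rw [hS'c] at hx hy hz
    obtain ⟨a, ha, rfl⟩ := hx
    obtain ⟨b, hb, rfl⟩ := hy
    obtain ⟨c, hc, rfl⟩ := hz
    rw [← map_commutatorElement, ← map_mul, ← map_mul, hcl' a ha b hb c hc]
  have hJ' : Cfsg.thompsonSubgroupOf 2 (S' : Subgroup (G ⧸ O)) = J.map π := by
    rw [hS'c]
    exact inducedFunctor_map (isCharPFunctor_thompson.{u}) π _ S.2 hinj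
  rw [hJ'] at hn
  have h1 := map_normalizer_eq π hπs (by rw [hπ, QuotientGroup.ker_mk']; exact PCore.coprime_card_pPrimeCore)
    (S.2.to_le (Subgroup.map_subtype_le _) : IsPGroup 2 J)
  rw [Subgroup.normalizer_eq_top_iff.2 hn] at h1
  have h2 := congrArg (Subgroup.comap π) h1
  rwa [Subgroup.comap_map_eq, Subgroup.comap_top, hπ, QuotientGroup.ker_mk'] at h2

end Cfsg.Agent.ConjFun
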