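import Cfsg.Agent.Lib.ConjFun.Basic
import Cfsg.Agent.Lib.Transfer.FocalLocal
import Cfsg.Agent.Lib.PCore.HallHigman

/-!
# Control of transfer by sets of conjugacy functors

* `transferGen 𝓥 S`: the subgroup generated by the `S ∩ N(W S)'`, `W ∈ 𝓥`
* `transfer_local_to_global`: local-to-global control of transfer
* `Controls p 𝓦 G`: an isomorphism-invariant family controls transfer in `G`
* `controls_step`: if it controls transfer in all smaller sections of `G`, and
  `O_p(G) ∩ G' ≤ D` when `C(O_p(G)) ≤ O_p(G)`, it controls transfer in `G`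
* `controls_of_constrained`: the induction over all sections
-/

set_option autoImplicit false

namespace Cfsg.Agent.ConjFun

open scoped commutatorElement

universe u v

section TransferPow

variable {G : Type u} [Group G] [Finite G]

/-- The transfer of an element all whose conjugates lie in `H`. -/
theorem transfer_of_forall_conj_mem {A : Type v} [CommGroup A] {H : Subgroup G} (φ : ↥H →* A)
    (z : G) (hz : ∀ x : G, x⁻¹ * z * x ∈ H) [Fintype (G ⧸ H)] :
    MonoidHom.transfer φ z = ∏ q : G ⧸ H, φ ⟨q.out⁻¹ * z * q.out, hz _⟩ := by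
  classical
  have hfix : ∀ q : G ⧸ H, z • q = q := by
    intro q
    obtain ⟨x, rfl⟩ := QuotientGroup.mk_surjective q
    rw [MulAction.Quotient.smul_mk, smul_eq_mul, QuotientGroup.eq]
    have := inv_mem (hz x)
    simpa [mul_assoc] using this
  have hper : ∀ q : G ⧸ H, Function.minimalPeriod (z • ·) q = 1 := fun q =>
    Function.minimalPeriod_eq_one_iff_isFixedPt.mpr (hfix q)
  let S := MulAction.orbitRel (Subgroup.zpowers z) (G ⧸ H)
  have horb : ∀ a b : G ⧸ H, S a b → a = b := by
    rintro a b ⟨⟨c, k, rfl⟩, rfl⟩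
    have h1 : z ^ k ∈ MulAction.stabilizer G b :=
      zpow_mem (MulAction.mem_stabilizer_iff.mpr (hfix b)) k
    exact MulAction.mem_stabilizer_iff.mp h1
  have hbij : Function.Bijective (fun q : Quotient S => q.out) :=
    ⟨Quotient.out_injective, fun a => ⟨Quotient.mk S a,
      horb _ _ (Quotient.mk_out (s := S) a)⟩⟩
  rw [MonoidHom.transfer_eq_prod_quotient_orbitRel_zpowers_quot]
  refine Fintype.prod_bijective _ hbij _ _ fun q => ?_
  congr 1
  apply Subtype.ext
  show q.out.out⁻¹ * z ^ Function.minimalPeriod (z • ·) q.out * q.out.out = _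
  rw [hper, pow_one]

/-- If every conjugate of `z ∈ G'` is congruent to `z` modulo a subgroup `D` of `H` containing
`H'`, and the order of `z` is prime to the index of `H`, then `z ∈ D`. -/
theorem mem_of_commutator_of_forall_congr {H D : Subgroup G} (hDH : D ≤ H) (hHD : ⁅H, H⁆ ≤ D)
    {z : G} (hzH : z ∈ H) (hz : z ∈ commutator G) (hconj : ∀ x : G, z⁻¹ * (x⁻¹ * z * x) ∈ D)
    (hcop : (orderOf z).Coprime H.index) : z ∈ D := by
  classical
  haveI : Fintype (G ⧸ H) := Fintype.ofFinite _
  haveI hDn : (D.subgroupOf H).Normal := by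
    refine ⟨fun n hn g => ?_⟩
    have h1 : ⁅(g : G), (n : G)⁆ ∈ D :=
      hHD (Subgroup.commutator_mem_commutator g.2 n.2)
    have h2 := mul_mem h1 (Subgroup.mem_subgroupOf.mp hn)
    rw [Subgroup.mem_subgroupOf]
    simpa [commutatorElement_def, mul_assoc] using h2
  have hab : IsMulCommutative (↥H ⧸ D.subgroupOf H) := by
    refine ⟨⟨fun a b => ?_⟩⟩
    obtain ⟨a, rfl⟩ := QuotientGroup.mk'_surjective _ a
    obtain ⟨b, rfl⟩ := QuotientGroup.mk'_surjective _ b
    rw [← commutatorElement_eq_one_iff_mul_comm, ← map_commutatorElement]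
    exact (QuotientGroup.eq_one_iff _).mpr (hHD (Subgroup.commutator_mem_commutator a.2 b.2))
  letI : CommGroup (↥H ⧸ D.subgroupOf H) :=
    { (inferInstance : Group (↥H ⧸ D.subgroupOf H)) with mul_comm := hab.is_comm.comm }
  let φ : ↥H →* (↥H ⧸ D.subgroupOf H) := QuotientGroup.mk' _
  have hmem : ∀ x : G, x⁻¹ * z * x ∈ H := fun x => by
    simpa using mul_mem hzH (hDH (hconj x))
  have hone : MonoidHom.transfer φ z = 1 :=
    Abelianization.commutator_subset_ker (MonoidHom.transfer φ) hz
  have hval : MonoidHom.transfer φ z = φ ⟨z, hzH⟩ ^ H.index := by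
    rw [transfer_of_forall_conj_mem φ z hmem, Finset.prod_congr rfl fun q _ => ?_,
      Finset.prod_const, Finset.card_univ, Subgroup.index, Nat.card_eq_fintype_card]
    symm
    refine QuotientGroup.eq.mpr ?_
    exact hconj q.out
  have h1 : (φ ⟨z, hzH⟩) ^ H.index = 1 := hval.symm.trans hone
  have h2 : (φ ⟨z, hzH⟩) ^ orderOf z = 1 := by
    rw [← map_pow, show (⟨z, hzH⟩ : ↥H) ^ orderOf z = 1 from
      Subtype.ext (by simpa using pow_orderOf_eq_one z), map_one]
  have h3 : (φ ⟨z, hzH⟩) ^ Nat.gcd (orderOf z) H.index = 1 := pow_gcd_eq_one.mpr ⟨h2, h1⟩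
  rw [hcop.gcd_eq_one, pow_one] at h3
  exact Subgroup.mem_subgroupOf.mp ((QuotientGroup.eq_one_iff _).mp h3)

end TransferPow

section Gen

variable {G : Type u} [Group G]

/-- The subgroup generated by the `S ∩ N(W S)'`, `W ∈ 𝓥`. -/
def transferGen (𝓥 : Set (Subgroup G → Subgroup G)) (S : Subgroup G) : Subgroup G :=
  ⨆ W ∈ 𝓥, S ⊓ ⁅Subgroup.normalizer ((W S : Subgroup G) : Set G),
    Subgroup.normalizer ((W S : Subgroup G) : Set G)⁆

theorem transferGen_le (𝓥 : Set (Subgroup G → Subgroup G)) (S : Subgroup G) :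
    transferGen 𝓥 S ≤ S ⊓ commutator G :=
  iSup₂_le fun _ _ => inf_le_inf_left _ (Subgroup.commutator_mono le_top le_top)

variable {p : ℕ}

theorem conjMap_transferGen {𝓥 : Set (Subgroup G → Subgroup G)}
    (h𝓥 : ∀ W ∈ 𝓥, Cfsg.IsConjugacyFunctor p W) {S : Subgroup G} (hS : IsPGroup p ↥S) (g : G) :
    (transferGen 𝓥 S).map (MulAut.conj g).toMonoidHom =
      transferGen 𝓥 (S.map (MulAut.conj g).toMonoidHom) := by
  simp only [transferGen, Subgroup.map_iSup]
  refine iSup_congr fun W => iSup_congr fun hW => ?_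
  rw [conjMap_inf, Subgroup.map_commutator, conjMap_normalizer, ← (h𝓥 W hW S hS).2.2 g]

theorem familyControlsTransferIn_top_iff (𝓥 : Set (Subgroup G → Subgroup G)) :
    Cfsg.FamilyControlsTransferIn p 𝓥 ⊤ ↔
      ∃ T : Subgroup G, IsPGroup p ↥T ∧ ¬ p ∣ T.index ∧ T ⊓ commutator G ≤ transferGen 𝓥 T := by
  unfold Cfsg.FamilyControlsTransferIn
  simp only [Subgroup.relIndex_top_right, top_inf_eq, le_top, true_and, ← commutator_def]
  refine exists_congr fun T => and_congr_right fun _ => and_congr_right fun _ => ?_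
  exact ⟨fun h => h.le, fun h => le_antisymm h (transferGen_le 𝓥 T)⟩

theorem controlsTransferIn_top_iff (W : Subgroup G → Subgroup G) :
    Cfsg.ControlsTransferIn p W ⊤ ↔ Cfsg.FamilyControlsTransferIn p {W} ⊤ := by
  unfold Cfsg.FamilyControlsTransferIn Cfsg.ControlsTransferIn
  simp only [Set.mem_singleton_iff, iSup_iSup_eq_left]

variable [Finite G] [Fact p.Prime]

/-- Control of transfer does not depend on the Sylow subgroup. -/
theorem transfer_le_of_family {𝓥 : Set (Subgroup G → Subgroup G)}
    (h𝓥 : ∀ W ∈ 𝓥, Cfsg.IsConjugacyFunctor p W) (h : Cfsg.FamilyControlsTransferIn p 𝓥 ⊤)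
    (S : Sylow p G) : (S : Subgroup G) ⊓ commutator G ≤ transferGen 𝓥 (S : Subgroup G) := by
  obtain ⟨T, hT, hidx, hle⟩ := (familyControlsTransferIn_top_iff 𝓥).mp h
  obtain ⟨g, -, hg⟩ := exists_conj_eq_of_relIndex (H := ⊤) S.2 le_top
    (by rw [Subgroup.relIndex_top_right]; exact S.not_dvd_index) hT le_top
    (by rwa [Subgroup.relIndex_top_right])
  have h1 : (commutator G).map (MulAut.conj g).toMonoidHom = commutator G :=
    Subgroup.characteristic_iff_map_eq.mp inferInstance _
  calc (S : Subgroup G) ⊓ commutator G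
      = (T ⊓ commutator G).map (MulAut.conj g).toMonoidHom := by rw [conjMap_inf, hg, h1]
    _ ≤ (transferGen 𝓥 T).map (MulAut.conj g).toMonoidHom := Subgroup.map_mono hle
    _ = transferGen 𝓥 (S : Subgroup G) := by rw [conjMap_transferGen h𝓥 hT, hg]

theorem family_of_transfer_le {𝓥 : Set (Subgroup G → Subgroup G)} (S : Sylow p G)
    (h : (S : Subgroup G) ⊓ commutator G ≤ transferGen 𝓥 (S : Subgroup G)) :
    Cfsg.FamilyControlsTransferIn p 𝓥 ⊤ :=
  (familyControlsTransferIn_top_iff 𝓥).mpr ⟨S, S.2, S.not_dvd_index, h⟩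

/-- A conjugate of a nontrivial `p`-subgroup with Sylow normalizer in `S`, receiving `S ∩ N(U)`. -/
theorem exists_fullyNormalized_conj (S : Sylow p G) {U : Subgroup G}
    (hUS : U ≤ (S : Subgroup G)) :
    ∃ g : G, U.map (MulAut.conj g).toMonoidHom ≤ (S : Subgroup G) ∧
      ((S : Subgroup G) ⊓ Subgroup.normalizer (U : Set G)).map (MulAut.conj g).toMonoidHom ≤
        (S : Subgroup G) ∧
      ¬ p ∣ ((S : Subgroup G) ⊓ Subgroup.normalizer
          ((U.map (MulAut.conj g).toMonoidHom : Subgroup G) : Set G)).relIndex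
        (Subgroup.normalizer ((U.map (MulAut.conj g).toMonoidHom : Subgroup G) : Set G)) := by
  set N := Subgroup.normalizer (U : Set G) with hN
  obtain ⟨R, hR⟩ := ((S.2.to_le (inf_le_left (b := N))).comap_subtype (K := N)).exists_le_sylow
  obtain ⟨P', hP'⟩ := (R.2.map N.subtype).exists_le_sylow
  obtain ⟨g, hg⟩ := MulAction.exists_smul_eq G P' S
  have hRS : ((R : Subgroup ↥N).map N.subtype).map (MulAut.conj g).toMonoidHom ≤ (S : Subgroup G) := by
    refine (Subgroup.map_mono hP').trans ?_
    rw [← hg]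
    exact le_of_eq rfl
  have hSN : (S : Subgroup G) ⊓ N ≤ (R : Subgroup ↥N).map N.subtype := by
    intro x hx
    exact ⟨⟨x, hx.2⟩, hR hx, rfl⟩
  have hUR : U ≤ (R : Subgroup ↥N).map N.subtype :=
    (le_inf hUS Subgroup.le_normalizer).trans hSN
  refine ⟨g, (Subgroup.map_mono hUR).trans hRS, (Subgroup.map_mono hSN).trans hRS, fun hdvd => ?_⟩
  rw [← conjMap_normalizer] at hdvd
  have h1 : (((R : Subgroup ↥N).map N.subtype).map (MulAut.conj g).toMonoidHom).relIndex
      (N.map (MulAut.conj g).toMonoidHom) = ((R : Subgroup ↥N).map N.subtype).relIndex N :=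
    Subgroup.relIndex_map_map_of_injective _ _ (MulAut.conj g).injective
  refine not_dvd_relIndex_of_sylow R ?_
  rw [← h1]
  exact hdvd.trans (Subgroup.relIndex_dvd_of_le_left _
    (le_inf hRS (Subgroup.map_mono (Subgroup.map_subtype_le _))))

/-- **Local to global for transfer.** -/
theorem transfer_local_to_global {𝓥 : Set (Subgroup G → Subgroup G)}
    (h𝓥 : ∀ W ∈ 𝓥, Cfsg.IsConjugacyFunctor p W) (S : Sylow p G)
    (hloc : ∀ E : Subgroup G, E ≤ (S : Subgroup G) → E ≠ ⊥ →
      ¬ p ∣ ((S : Subgroup G) ⊓ Subgroup.normalizer (E : Set G)).relIndex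
          (Subgroup.normalizer (E : Set G)) →
      ((S : Subgroup G) ⊓ Subgroup.normalizer (E : Set G)) ⊓
          ⁅Subgroup.normalizer (E : Set G), Subgroup.normalizer (E : Set G)⁆ ≤
        transferGen 𝓥 ((S : Subgroup G) ⊓ Subgroup.normalizer (E : Set G))) :
    (S : Subgroup G) ⊓ commutator G ≤ transferGen 𝓥 (S : Subgroup G) := by
  set D := transferGen 𝓥 (S : Subgroup G) with hD
  have focal : ∀ (E : Subgroup G) (x : G), x ∈ Subgroup.normalizer (E : Set G) →
      E ≤ (S : Subgroup G) → ∀ a ∈ E, a⁻¹ * (x⁻¹ * a * x) ∈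
        ((S : Subgroup G) ⊓ Subgroup.normalizer (E : Set G)) ⊓
          ⁅Subgroup.normalizer (E : Set G), Subgroup.normalizer (E : Set G)⁆ := by
    intro E x hx hES a ha
    refine Subgroup.mem_inf.mpr ⟨Subgroup.mem_inf.mpr ⟨?_, ?_⟩, ?_⟩
    · exact mul_mem (inv_mem (hES ha)) (hES ((Subgroup.mem_normalizer_iff''.mp hx a).mp ha))
    · exact mul_mem (inv_mem (Subgroup.le_normalizer ha))
        (Subgroup.le_normalizer ((Subgroup.mem_normalizer_iff''.mp hx a).mp ha))
    · have h1 := Subgroup.commutator_mem_commutator (inv_mem (Subgroup.le_normalizer ha)) (inv_mem hx)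
      convert h1 using 1
      rw [commutatorElement_def]
      group
  have main : ∀ k, ∀ E : Subgroup G, E ≤ (S : Subgroup G) → E ≠ ⊥ →
      ¬ p ∣ ((S : Subgroup G) ⊓ Subgroup.normalizer (E : Set G)).relIndex
          (Subgroup.normalizer (E : Set G)) →
      Nat.card ↥(S : Subgroup G) - Nat.card ↥((S : Subgroup G) ⊓ Subgroup.normalizer (E : Set G)) = k →
      ((S : Subgroup G) ⊓ Subgroup.normalizer (E : Set G)) ⊓
          ⁅Subgroup.normalizer (E : Set G), Subgroup.normalizer (E : Set G)⁆ ≤ D := by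
    intro k
    induction k using Nat.strong_induction_on with
    | _ k IH =>
    intro E hES hE hfn hk
    refine (hloc E hES hE hfn).trans ?_
    set T := (S : Subgroup G) ⊓ Subgroup.normalizer (E : Set G) with hTdef
    by_cases hTS : T = (S : Subgroup G)
    · rw [hTS]
    refine iSup₂_le fun W hW => ?_
    have hTp : IsPGroup p ↥T := S.2.to_le inf_le_left
    have hTne : T ≠ ⊥ := fun h => hE (le_bot_iff.mp ((le_inf hES Subgroup.le_normalizer).trans h.le))
    set U := W T with hUdef
    have hUT : U ≤ T := (h𝓥 W hW T hTp).1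
    have hUne : U ≠ ⊥ := (h𝓥 W hW T hTp).2.1 hTne
    have hUS : U ≤ (S : Subgroup G) := hUT.trans inf_le_left
    have hgrow : T < (S : Subgroup G) ⊓ Subgroup.normalizer (U : Set G) :=
      (Transfer.lt_inf_normalizer_of_lt S.2 (lt_of_le_of_ne inf_le_left hTS)).trans_le
        (inf_le_inf_left _ (normalizer_le_normalizer_functor (h𝓥 W hW) hTp))
    have hcard : Nat.card ↥T < Nat.card ↥((S : Subgroup G) ⊓ Subgroup.normalizer (U : Set G)) := by
      by_contra hle
      exact hgrow.ne (Subgroup.eq_of_le_of_card_ge hgrow.le (not_lt.mp hle))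
    obtain ⟨g, hgU, hgN, hgfn⟩ := exists_fullyNormalized_conj S hUS
    set U' := U.map (MulAut.conj g).toMonoidHom with hU'
    have hbig : Nat.card ↥T < Nat.card ↥((S : Subgroup G) ⊓ Subgroup.normalizer (U' : Set G)) := by
      refine hcard.trans_le ?_
      rw [← card_conjMap ((S : Subgroup G) ⊓ Subgroup.normalizer (U : Set G)) g]
      refine Subgroup.card_le_of_le (le_inf hgN ?_)
      rw [hU', ← conjMap_normalizer]
      exact Subgroup.map_mono inf_le_right
    have hU'ne : U' ≠ ⊥ := by
      rw [hU', Ne, Subgroup.map_eq_bot_iff_of_injective _ (MulAut.conj g).injective]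
      exact hUne
    have hIH : ((S : Subgroup G) ⊓ Subgroup.normalizer (U' : Set G)) ⊓
        ⁅Subgroup.normalizer (U' : Set G), Subgroup.normalizer (U' : Set G)⁆ ≤ D := by
      refine IH _ ?_ U' hgU hU'ne hgfn rfl
      have h1 : Nat.card ↥((S : Subgroup G) ⊓ Subgroup.normalizer (U' : Set G)) ≤
          Nat.card ↥(S : Subgroup G) := Subgroup.card_le_of_le inf_le_left
      omega
    rintro y ⟨hyT, hyN⟩
    have hyN' : g * y * g⁻¹ ∈ ((S : Subgroup G) ⊓ Subgroup.normalizer (U' : Set G)) ⊓
        ⁅Subgroup.normalizer (U' : Set G), Subgroup.normalizer (U' : Set G)⁆ := by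
      have h1 : g * y * g⁻¹ ∈ ⁅Subgroup.normalizer (U' : Set G), Subgroup.normalizer (U' : Set G)⁆ := by
        rw [hU', ← conjMap_normalizer, ← Subgroup.map_commutator]
        exact ⟨y, hyN, rfl⟩
      exact Subgroup.mem_inf.mpr ⟨Subgroup.mem_inf.mpr
        ⟨hgN ⟨y, ⟨hyT.1, Subgroup.commutator_le_self _ hyN⟩, rfl⟩,
          Subgroup.commutator_le_self _ h1⟩, h1⟩
    have hch := (Transfer.alperin S
      (((S : Subgroup G) ⊓ Subgroup.normalizer (U : Set G) : Subgroup G) : Set G) g⁻¹
      (fun a ha => ha.1) (fun a ha => by rw [inv_inv]; exact hgN ⟨a, ha, rfl⟩)).strengthen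
      (Nat.card ↥((S : Subgroup G) ⊓ Subgroup.normalizer (U : Set G)))
      (Nat.card_coe_set_eq _).le
    have hq : y⁻¹ * (g⁻¹⁻¹ * y * g⁻¹) ∈ D := by
      refine hch.quot_mem (T := D) (fun F hF x hx a ha => ?_) y
        ⟨hyT.1, Subgroup.commutator_le_self _ hyN⟩
      obtain ⟨⟨Q, hQ⟩, hFcard⟩ := hF
      have hFS : F ≤ (S : Subgroup G) := Transfer.IsTame.le ⟨Q, hQ⟩
      by_cases hF1 : F = ⊥
      · rw [hF1, Subgroup.mem_bot] at ha
        subst ha
        simp
      refine IH _ ?_ F hFS hF1 hQ.2.1 rfl (focal F x hx hFS a ha)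
      have h1 : Nat.card ↥((S : Subgroup G) ⊓ Subgroup.normalizer (F : Set G)) ≤
          Nat.card ↥(S : Subgroup G) := Subgroup.card_le_of_le inf_le_left
      have h2 : Nat.card ↥F ≤ Nat.card ↥((S : Subgroup G) ⊓ Subgroup.normalizer (F : Set G)) :=
        Subgroup.card_le_of_le (le_inf hFS Subgroup.le_normalizer)
      omega
    have h3 := mul_mem (hIH hyN') (inv_mem hq)
    simpa [mul_assoc] using h3
  rw [inf_comm, Subgroup.commutator_inf_eq_focalSubgroup]
  by_cases hS1 : (S : Subgroup G) = ⊥
  · exact (Subgroup.focalSubgroup_le _).trans (hS1.le.trans bot_le)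
  refine Transfer.focalSubgroup_le_of_local S D ?_ ?_
  · intro x hx a ha
    refine main _ (S : Subgroup G) le_rfl hS1 ?_ rfl (focal _ x hx le_rfl a ha)
    rw [inf_eq_left.mpr Subgroup.le_normalizer]
    exact fun h => S.not_dvd_index (h.trans (Subgroup.relIndex_dvd_index_of_le Subgroup.le_normalizer))
  · intro E hE x hx _ a ha
    obtain ⟨Q, hQ⟩ := hE
    by_cases hE1 : E = ⊥
    · rw [hE1, Subgroup.mem_bot] at ha
      subst ha
      simp
    exact main _ E (Transfer.IsTame.le ⟨Q, hQ⟩) hE1 hQ.2.1 rfl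
      (focal E x hx (Transfer.IsTame.le ⟨Q, hQ⟩) a ha)

end Gen

section CharFamily

variable {p : ℕ}

/-- The conjugacy functors on `G` induced by a family of functors. -/
def inducedFamily (𝓦 : Set (∀ (Q : Type u) [Group Q], Subgroup Q)) (G : Type u) [Group G] :
    Set (Subgroup G → Subgroup G) :=
  (fun W => Cfsg.inducedFunctor (G := G) W) '' 𝓦

/-- The family controls transfer in `G` (for every Sylow subgroup). -/
def Controls (p : ℕ) (𝓦 : Set (∀ (Q : Type u) [Group Q], Subgroup Q)) (G : Type u) [Group G] :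
    Prop :=
  ∀ S : Sylow p G, (S : Subgroup G) ⊓ commutator G ≤ transferGen (inducedFamily 𝓦 G) S

theorem transferGen_inducedFamily (𝓦 : Set (∀ (Q : Type u) [Group Q], Subgroup Q)) {G : Type u}
    [Group G] (S : Subgroup G) :
    transferGen (inducedFamily 𝓦 G) S = ⨆ W ∈ 𝓦,
      S ⊓ ⁅Subgroup.normalizer ((Cfsg.inducedFunctor (G := G) W S : Subgroup G) : Set G),
        Subgroup.normalizer ((Cfsg.inducedFunctor (G := G) W S : Subgroup G) : Set G)⁆ := by
  rw [transferGen, inducedFamily, iSup_image]

theorem inducedFamily_singleton (W : ∀ (Q : Type u) [Group Q], Subgroup Q) (G : Type u) [Group G] :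
    inducedFamily {W} G = {Cfsg.inducedFunctor (G := G) W} := Set.image_singleton

variable {𝓦 : Set (∀ (Q : Type u) [Group Q], Subgroup Q)}
  (h𝓦 : ∀ W ∈ 𝓦, Cfsg.IsCharPFunctor.{u} p W)
include h𝓦

theorem isConjugacyFunctor_inducedFamily {G : Type u} [Group G] [Finite G] :
    ∀ W ∈ inducedFamily 𝓦 G, Cfsg.IsConjugacyFunctor p W := by
  rintro _ ⟨W, hW, rfl⟩
  exact isConjugacyFunctor_inducedFunctor (h𝓦 W hW)

theorem map_transferGen_le {G H : Type u} [Group G] [Group H] [Finite H] (f : H →* G)
    (hf : Function.Injective f) {S : Subgroup H} (hS : IsPGroup p ↥S) :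
    (transferGen (inducedFamily 𝓦 H) S).map f ≤ transferGen (inducedFamily 𝓦 G) (S.map f) := by
  rw [transferGen_inducedFamily, transferGen_inducedFamily]
  simp only [Subgroup.map_iSup]
  refine iSup₂_mono fun W hW => ?_
  refine (Subgroup.map_inf_le _ _ _).trans (inf_le_inf_left _ ?_)
  rw [Subgroup.map_commutator, inducedFunctor_map (h𝓦 W hW) f S hS hf.injOn]
  exact Subgroup.commutator_mono (Subgroup.le_normalizer_map f) (Subgroup.le_normalizer_map f)

variable [Fact p.Prime]

theorem controls_iff_family {G : Type u} [Group G] [Finite G] :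
    Cfsg.FamilyControlsTransferIn p (inducedFamily 𝓦 G) ⊤ ↔ Controls p 𝓦 G :=
  ⟨fun h S => transfer_le_of_family (isConjugacyFunctor_inducedFamily h𝓦) h S,
    fun h => family_of_transfer_le Classical.ofNonempty (h _)⟩

theorem controls_congr {G H : Type u} [Group G] [Group H] [Finite H] (e : H ≃* G)
    (h : Controls p 𝓦 H) : Controls p 𝓦 G := by
  haveI : Finite G := Finite.of_equiv H e.toEquiv
  rw [← controls_iff_family h𝓦]
  obtain ⟨S⟩ : Nonempty (Sylow p H) := Sylow.nonempty
  refine family_of_transfer_le (S.mapSurjective (f := e.toMonoidHom) e.surjective) ?_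
  show (S : Subgroup H).map e.toMonoidHom ⊓ commutator G ≤ transferGen _ ((S : Subgroup H).map e.toMonoidHom)
  refine le_trans ?_ ((Subgroup.map_mono (h S)).trans (map_transferGen_le h𝓦 _ e.injective S.2))
  rintro x ⟨⟨y, hy, rfl⟩, hx⟩
  refine ⟨y, ⟨hy, ?_⟩, rfl⟩
  have h1 : (commutator H).map e.toMonoidHom = commutator G := by
    rw [commutator_def, Subgroup.map_commutator, Subgroup.map_top_of_surjective _ e.surjective,
      ← commutator_def]
  rw [← h1] at hx
  obtain ⟨y', hy', hyy⟩ := hx
  exact (e.injective hyy) ▸ hy'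

/-- Control in a subgroup, read off in the group. -/
theorem inf_commutator_le_of_controls {G : Type u} [Group G] [Finite G] {H T : Subgroup G}
    (hH : Controls p 𝓦 ↥H) (hT : IsPGroup p ↥T) (hTH : T ≤ H) (hidx : ¬ p ∣ T.relIndex H) :
    T ⊓ ⁅H, H⁆ ≤ transferGen (inducedFamily 𝓦 G) T := by
  obtain ⟨R, hR⟩ := exists_sylow_eq (H := H) hT hidx
  have hRm : (R : Subgroup ↥H).map H.subtype = T := by
    rw [hR, Subgroup.map_subgroupOf_eq_of_le hTH]
  have h1 := (Subgroup.map_mono (f := H.subtype) (hH R)).trans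
    (map_transferGen_le h𝓦 _ H.subtype_injective R.2)
  rwa [Subgroup.map_inf _ _ _ H.subtype_injective, Subgroup.map_subtype_commutator, hRm] at h1

/-- The inductive step. -/
theorem controls_step {G : Type u} [Group G] [Finite G]
    (IH : ∀ (X : Type u) [Group X], Cfsg.Involves X G → Nat.card X < Nat.card G → Controls p 𝓦 X)
    (hcon : Subgroup.centralizer (Cfsg.pCore p G : Set G) ≤ Cfsg.pCore p G → ∀ S : Sylow p G,
      Cfsg.pCore p G ⊓ commutator G ≤ transferGen (inducedFamily 𝓦 G) S) :
    Controls p 𝓦 G := by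
  intro S
  set D := transferGen (inducedFamily 𝓦 G) (S : Subgroup G) with hD
  have hsub : ∀ H : Subgroup G, H ≠ ⊤ → Controls p 𝓦 ↥H := fun H hH =>
    IH ↥H (involves_subgroup H) (card_lt_of_ne_top hH)
  have hsubS : ∀ H : Subgroup G, H ≠ ⊤ → (S : Subgroup G) ≤ H → (S : Subgroup G) ⊓ ⁅H, H⁆ ≤ D :=
    fun H hH hSH => inf_commutator_le_of_controls h𝓦 (hsub H hH) S.2 hSH fun h =>
      S.not_dvd_index (h.trans (Subgroup.relIndex_dvd_index_of_le hSH))
  have hSD : ⁅(S : Subgroup G), (S : Subgroup G)⁆ ≤ D := by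
    by_cases hStop : (S : Subgroup G) = ⊤
    · have hG : IsPGroup p G := fun x => by
        obtain ⟨k, hk⟩ := S.2 ⟨x, hStop ▸ trivial⟩
        exact ⟨k, congrArg Subtype.val hk⟩
      have hQ : Cfsg.pCore p G = ⊤ := PCore.pCore_eq_top_of_isPGroup hG
      have h1 := hcon (by rw [hQ]; exact le_top) S
      rw [hQ, top_inf_eq] at h1
      exact (Subgroup.commutator_mono le_top le_top).trans h1
    · exact (le_inf (Subgroup.commutator_le_self _) le_rfl).trans (hsubS _ hStop le_rfl)
  have hDS : D ≤ (S : Subgroup G) := (transferGen_le _ _).trans inf_le_left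
  by_cases hO : Cfsg.pPrimeCore p G = ⊥
  · by_cases hQ : Cfsg.pCore p G = ⊥
    · -- no normal `p`-subgroup: all local subgroups are proper
      refine transfer_local_to_global (isConjugacyFunctor_inducedFamily h𝓦) S fun E hES hE hfn => ?_
      refine inf_commutator_le_of_controls h𝓦 (hsub _ fun htop => hE ?_)
        (S.2.to_le inf_le_left) inf_le_right hfn
      haveI : E.Normal := Subgroup.normalizer_eq_top_iff.mp htop
      exact le_bot_iff.mp (hQ ▸ PCore.le_pCore (S.2.to_le hES))
    · set Q := Cfsg.pCore p G with hQdef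
      have hQS : Q ≤ (S : Subgroup G) := PCore.pCore_le_sylow S
      have hQp : IsPGroup p ↥Q := PCore.isPGroup_pCore
      -- modulo `Q`
      have hmod : (S : Subgroup G) ⊓ commutator G ≤ D ⊔ Q := by
        set π := QuotientGroup.mk' Q with hπ
        have hπs : Function.Surjective π := QuotientGroup.mk'_surjective Q
        have hX : Controls p 𝓦 (G ⧸ Q) := IH _ (involves_quotient Q) (card_quotient_lt hQ)
        have h1 : ((S : Subgroup G) ⊓ commutator G).map π ≤
            ((S.mapSurjective hπs : Sylow p (G ⧸ Q)) : Subgroup (G ⧸ Q)) ⊓ commutator (G ⧸ Q) := by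
          refine (Subgroup.map_inf_le _ _ _).trans (inf_le_inf ?_ ?_)
          · rw [Sylow.coe_mapSurjective]
          · rw [commutator_def, Subgroup.map_commutator]
            exact Subgroup.commutator_mono le_top le_top
        have h2 : transferGen (inducedFamily 𝓦 (G ⧸ Q))
            (S.mapSurjective hπs : Sylow p (G ⧸ Q)) ≤ D.map π := by
          rw [Sylow.coe_mapSurjective, transferGen_inducedFamily]
          refine iSup₂_le fun W hW => ?_
          have hSbar : IsPGroup p ↥((S : Subgroup G).map π) := S.2.map π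
          by_cases hSb : (S : Subgroup G).map π = ⊥
          · exact inf_le_left.trans (hSb.le.trans bot_le)
          set Wb := Cfsg.inducedFunctor (G := G ⧸ Q) W ((S : Subgroup G).map π) with hWb
          have hWne : Wb ≠ ⊥ := inducedFunctor_ne_bot (h𝓦 W hW) hSbar hSb
          set V := Wb.comap π with hV
          have hVS : V ≤ (S : Subgroup G) := by
            refine (Subgroup.comap_mono (inducedFunctor_le W _)).trans ?_
            rw [Subgroup.comap_map_eq, hπ, QuotientGroup.ker_mk']
            exact sup_le le_rfl hQS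
          have hVn : (Subgroup.normalizer (V : Set G)) =
              (Subgroup.normalizer (Wb : Set (G ⧸ Q))).comap π :=
            (Subgroup.comap_normalizer_eq_of_surjective Wb hπs).symm
          have hNtop : Subgroup.normalizer (V : Set G) ≠ ⊤ := by
            intro htop
            haveI : V.Normal := Subgroup.normalizer_eq_top_iff.mp htop
            have hle : V ≤ Q := PCore.le_pCore (S.2.to_le hVS)
            refine hWne (le_bot_iff.mp ?_)
            rw [← Subgroup.map_comap_eq_self_of_surjective hπs Wb, ← hV]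
            refine (Subgroup.map_mono hle).trans (le_of_eq ?_)
            rw [hπ, QuotientGroup.map_mk'_self]
          have hSN : (S : Subgroup G) ≤ Subgroup.normalizer (V : Set G) := by
            rw [hVn, ← Subgroup.map_le_iff_le_comap]
            exact le_normalizer_functor (isConjugacyFunctor_inducedFunctor (h𝓦 W hW)) hSbar
          refine le_trans ?_ (Subgroup.map_mono (hsubS _ hNtop hSN))
          rintro y ⟨⟨s, hs, rfl⟩, hy⟩
          have hN : (Subgroup.normalizer (Wb : Set (G ⧸ Q))) =
              (Subgroup.normalizer (V : Set G)).map π := by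
            rw [hVn, Subgroup.map_comap_eq_self_of_surjective hπs]
          rw [hN, ← Subgroup.map_commutator] at hy
          obtain ⟨n, hn, hne⟩ := hy
          have hq : s⁻¹ * n ∈ Q := by
            rw [← QuotientGroup.eq_one_iff]
            show π (s⁻¹ * n) = 1
            rw [map_mul, map_inv, hne, inv_mul_cancel]
          refine ⟨n, Subgroup.mem_inf.mpr ⟨?_, hn⟩, hne⟩
          simpa using (S : Subgroup G).mul_mem hs (hQS hq)
        have h3 := Subgroup.comap_mono (f := π) (h1.trans ((hX _).trans h2))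
        rw [Subgroup.comap_map_eq, Subgroup.comap_map_eq, hπ, QuotientGroup.ker_mk'] at h3
        exact le_sup_left.trans h3
      suffices hQD : Q ⊓ commutator G ≤ D by
        intro x hx
        obtain ⟨d, hd, q, hq, rfl⟩ := Subgroup.mem_sup_of_normal_right.mp (hmod hx)
        refine mul_mem hd (hQD (Subgroup.mem_inf.mpr ⟨hq, ?_⟩))
        simpa using (commutator G).mul_mem ((commutator G).inv_mem (Subgroup.mem_inf.mp (transferGen_le _ _ hd)).2) (Subgroup.mem_inf.mp hx).2
      by_cases hC : Subgroup.centralizer (Q : Set G) ≤ Q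
      · exact hcon hC S
      set C := Subgroup.centralizer (Q : Set G) with hCdef
      haveI hCn : C.Normal := Subgroup.normal_centralizer
      have hRle : ¬ ((S : Subgroup G) ⊓ C) ≤ Q := by
        intro hle
        apply hC
        refine PCore.le_pCore_of_le_centralizer hO C le_rfl ?_
        refine Nat.Coprime.symm ((Fact.out (p := p.Prime)).coprime_iff_not_dvd.mpr fun hdvd => ?_)
        have := not_dvd_relIndex_inf (T := (S : Subgroup G)) (H := ⊤) (L := C) S.2
          (by rw [Subgroup.relIndex_top_right]; exact S.not_dvd_index) le_top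
          (le_of_eq_of_le rfl (le_top.trans (Subgroup.normalizer_eq_top (H := C)).ge))
        exact this (hdvd.trans (Subgroup.relIndex_dvd_of_le_left C hle))
      set R := ((S : Subgroup G) ⊓ C) ⊔ Q with hRdef
      set M := Subgroup.normalizer (R : Set G) with hMdef
      have hRS : R ≤ (S : Subgroup G) := sup_le inf_le_left hQS
      have hMne : M ≠ ⊤ := by
        intro htop
        haveI : R.Normal := Subgroup.normalizer_eq_top_iff.mp htop
        exact hRle (le_sup_left.trans (PCore.le_pCore (S.2.to_le hRS)))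
      have hNC : Subgroup.normalizer (((S : Subgroup G) ⊓ C : Subgroup G) : Set G) ≤ M := by
        intro g hg
        rw [hMdef, Subgroup.mem_normalizer_iff_map_conj_eq]
        show R.map (MulAut.conj g).toMonoidHom = R
        rw [hRdef, Subgroup.map_sup, conjMap_eq_self hg,
          conjMap_eq_self (le_top.trans (Subgroup.normalizer_eq_top (H := Q)).ge (Subgroup.mem_top g))]
      have hSM : (S : Subgroup G) ≤ M := by
        refine le_trans ?_ hNC
        refine le_trans (le_inf ?_ ?_) Subgroup.inf_normalizer_le_normalizer_inf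
        · exact Subgroup.le_normalizer
        · exact le_top.trans (Subgroup.normalizer_eq_top (H := C)).ge
      intro z hz
      refine mem_of_commutator_of_forall_congr hDS hSD (hQS hz.1) hz.2 ?_ ?_
      · intro x
        obtain ⟨R', hR'⟩ := exists_sylow_eq (T := (S : Subgroup G) ⊓ C) (H := C)
          (S.2.to_le inf_le_left)
          (not_dvd_relIndex_inf (H := ⊤) S.2
            (by rw [Subgroup.relIndex_top_right]; exact S.not_dvd_index) le_top
            (le_top.trans (Subgroup.normalizer_eq_top (H := C)).ge))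
        have htop := Sylow.normalizer_sup_eq_top R'
        rw [hR', Subgroup.map_subgroupOf_eq_of_le inf_le_right] at htop
        have hx : x ∈ C ⊔ Subgroup.normalizer (((S : Subgroup G) ⊓ C : Subgroup G) : Set G) := by
          rw [sup_comm, htop]
          exact Subgroup.mem_top x
        obtain ⟨c, hc, m, hm, rfl⟩ := Subgroup.mem_sup_of_normal_left.mp hx
        have hcz : c⁻¹ * z * c = z := by
          rw [mul_assoc, show z * c = c * z from hc z hz.1, inv_mul_cancel_left]
        have e : z⁻¹ * ((c * m)⁻¹ * z * (c * m)) = z⁻¹ * (m⁻¹ * z * m) := by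
          rw [mul_inv_rev]
          calc z⁻¹ * (m⁻¹ * c⁻¹ * z * (c * m)) = z⁻¹ * (m⁻¹ * (c⁻¹ * z * c) * m) := by group
            _ = _ := by rw [hcz]
        rw [e]
        refine hsubS M hMne hSM (Subgroup.mem_inf.mpr ⟨?_, ?_⟩)
        · refine mul_mem (inv_mem (hQS hz.1)) (hQS ?_)
          simpa using (inferInstance : Q.Normal).conj_mem z hz.1 m⁻¹
        · have h1 := Subgroup.commutator_mem_commutator (inv_mem (hSM (hQS hz.1))) (inv_mem (hNC hm))
          convert h1 using 1
          rw [commutatorElement_def]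
          group
      · obtain ⟨k, hk⟩ := IsPGroup.iff_orderOf.mp hQp ⟨z, hz.1⟩
        rw [Subgroup.orderOf_mk] at hk
        rw [hk]
        exact ((Fact.out (p := p.Prime)).coprime_iff_not_dvd.mpr S.not_dvd_index).pow_left k
  · -- modulo `O_{p'}(G)`
    set O := Cfsg.pPrimeCore p G with hOdef
    set π := QuotientGroup.mk' O with hπ
    have hπs : Function.Surjective π := QuotientGroup.mk'_surjective O
    have hker : (Nat.card π.ker).Coprime p := by
      rw [hπ, QuotientGroup.ker_mk']
      exact PCore.coprime_card_pPrimeCore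
    have hX : Controls p 𝓦 (G ⧸ O) := IH _ (involves_quotient O) (card_quotient_lt hO)
    have hinj : ∀ a ∈ (S : Subgroup G), ∀ b ∈ (S : Subgroup G), π a = π b → a = b := by
      intro a ha b hb hab
      have h1 : a⁻¹ * b ∈ O := by
        rw [← QuotientGroup.eq_one_iff]
        show π (a⁻¹ * b) = 1
        rw [map_mul, map_inv, hab, inv_mul_cancel]
      obtain ⟨k, hk⟩ := IsPGroup.iff_orderOf.mp S.2 ⟨_, mul_mem (inv_mem ha) hb⟩
      rw [Subgroup.orderOf_mk] at hk
      have h2 : (orderOf (a⁻¹ * b)).Coprime p :=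
        PCore.coprime_card_pPrimeCore.coprime_dvd_left (Subgroup.orderOf_dvd_natCard O h1)
      rw [hk] at h2
      have h3 : orderOf (a⁻¹ * b) = 1 := by
        rw [hk]
        rcases k with _ | k
        · simp
        · exact absurd (Nat.coprime_self p |>.mp (Nat.Coprime.coprime_dvd_left (dvd_pow_self p (by omega)) h2))
            (Fact.out (p := p.Prime)).ne_one
      exact (inv_mul_eq_one.mp (orderOf_eq_one_iff.mp h3))
    have h2 : transferGen (inducedFamily 𝓦 (G ⧸ O))
        (S.mapSurjective hπs : Sylow p (G ⧸ O)) ≤ D.map π := by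
      rw [Sylow.coe_mapSurjective, transferGen_inducedFamily]
      refine iSup₂_le fun W hW => ?_
      set U := Cfsg.inducedFunctor (G := G) W (S : Subgroup G) with hUdef
      have hU : Cfsg.inducedFunctor (G := G ⧸ O) W ((S : Subgroup G).map π) = U.map π :=
        inducedFunctor_map (h𝓦 W hW) π _ S.2 fun a ha b hb => hinj a ha b hb
      rw [hU, ← map_normalizer_eq π hπs hker (S.2.to_le (inducedFunctor_le W _)),
        ← Subgroup.map_commutator]
      set N := Subgroup.normalizer (U : Set G) with hNdef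
      set L := ⁅N, N⁆ with hL
      have hSN : (S : Subgroup G) ≤ N :=
        le_normalizer_functor (isConjugacyFunctor_inducedFunctor (h𝓦 W hW)) S.2
      set T := (S : Subgroup G) ⊓ (L.map π).comap π with hT
      have hLn : N ≤ Subgroup.normalizer (L : Set G) := by
        intro n hn
        rw [Subgroup.mem_normalizer_iff_map_conj_eq]
        show L.map (MulAut.conj n).toMonoidHom = L
        rw [hL, Subgroup.map_commutator, conjMap_eq_self (Subgroup.le_normalizer hn)]
      have heq : (S : Subgroup G) ⊓ L = T := by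
        refine Subgroup.eq_of_le_of_card_ge (inf_le_inf_left _ (Subgroup.le_comap_map π L)) ?_
        obtain ⟨R, hR⟩ := exists_sylow_eq (T := (S : Subgroup G) ⊓ L) (H := L) (S.2.to_le inf_le_left)
          (not_dvd_relIndex_inf S.2 (fun h => S.not_dvd_index
            (h.trans (Subgroup.relIndex_dvd_index_of_le hSN))) (Subgroup.commutator_le_self N) hLn)
        have hTcard : Nat.card ↥T ∣ Nat.card ↥L := by
          have hTi : Set.InjOn π (T : Set G) := fun a ha b hb => hinj a ha.1 b hb.1
          have e1 : Nat.card ↥T = Nat.card ↥(T.map π) :=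
            (Nat.card_congr (Equiv.ofBijective (π.subgroupMap T)
              ⟨fun a b hab => Subtype.ext (hTi a.2 b.2 (congrArg Subtype.val hab)),
                MonoidHom.subgroupMap_surjective π T⟩))
          rw [e1]
          exact (Subgroup.card_dvd_of_le ((Subgroup.map_mono inf_le_right).trans
            (Subgroup.map_comap_le π _))).trans (Subgroup.card_map_dvd L π)
        obtain ⟨k, hk⟩ := IsPGroup.iff_card.mp (S.2.to_le (inf_le_left : T ≤ _))
        rw [hk] at hTcard ⊢
        have h5 := R.pow_dvd_card_of_pow_dvd_card hTcard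
        have h6 : Nat.card ↥(R : Subgroup ↥L) = Nat.card ↥((S : Subgroup G) ⊓ L) := by
          rw [hR]
          exact Nat.card_congr (Subgroup.subgroupOfEquivOfLe inf_le_right).toEquiv
        exact Nat.le_of_dvd Nat.card_pos (h6 ▸ h5)
      rintro y ⟨⟨s, hs, rfl⟩, hy⟩
      refine ⟨s, ?_, rfl⟩
      have h7 : s ∈ (S : Subgroup G) ⊓ L := by
        rw [heq]
        exact ⟨hs, hy⟩
      rw [hD, transferGen_inducedFamily]
      exact le_iSup₂ (f := fun W (_ : W ∈ 𝓦) => (S : Subgroup G) ⊓
        ⁅Subgroup.normalizer ((Cfsg.inducedFunctor (G := G) W S : Subgroup G) : Set G),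
          Subgroup.normalizer ((Cfsg.inducedFunctor (G := G) W S : Subgroup G) : Set G)⁆) W hW h7
    intro s hs
    have h1 : π s ∈ ((S.mapSurjective hπs : Sylow p (G ⧸ O)) : Subgroup (G ⧸ O)) ⊓
        commutator (G ⧸ O) := by
      refine ⟨?_, ?_⟩
      · rw [Sylow.coe_mapSurjective]
        exact ⟨s, hs.1, rfl⟩
      · have : (commutator G).map π ≤ commutator (G ⧸ O) := by
          rw [commutator_def, Subgroup.map_commutator]
          exact Subgroup.commutator_mono le_top le_top
        exact this ⟨s, hs.2, rfl⟩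
    obtain ⟨d, hd, hde⟩ := h2 (hX _ h1)
    rwa [← hinj d (hDS hd) s hs.1 hde]

theorem controls_of_constrained_aux : ∀ (n : ℕ) (G : Type u) [Group G] [Finite G], Nat.card G = n →
    (∀ (X : Type u) [Group X], Cfsg.Involves X G →
      Subgroup.centralizer (Cfsg.pCore p X : Set X) ≤ Cfsg.pCore p X → ∀ S : Sylow p X,
        Cfsg.pCore p X ⊓ commutator X ≤ transferGen (inducedFamily 𝓦 X) S) →
    Controls p 𝓦 G := by
  intro n
  induction n using Nat.strong_induction_on with
  | _ n IH =>
  intro G _ _ hn hcon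
  refine controls_step h𝓦 ?_ (hcon G (involves_refl G))
  intro X _ hX hlt
  haveI : Finite X := finite_of_involves hX
  exact IH _ (hn ▸ hlt) X rfl fun Y _ hY => hcon Y (involves_trans hY hX)

theorem controls_of_constrained {G : Type u} [Group G] [Finite G]
    (hcon : ∀ (X : Type u) [Group X], Cfsg.Involves X G →
      Subgroup.centralizer (Cfsg.pCore p X : Set X) ≤ Cfsg.pCore p X → ∀ S : Sylow p X,
        Cfsg.pCore p X ⊓ commutator X ≤ transferGen (inducedFamily 𝓦 X) S) :
    Controls p 𝓦 G :=
  controls_of_constrained_aux h𝓦 _ G rfl hcon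

end CharFamily

end Cfsg.Agent.ConjFun
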